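import Groth.Agent.SubExt.Extend
import Groth.Agent.AlgSpMor.CoherentColim

/-!
# A quasi-coherent module is the union of its finite type quasi-coherent submodules
-/

universe w v u

set_option autoImplicit false
set_option linter.style.haveILetI false
set_option backward.isDefEq.respectTransparency false
set_option backward.isDefEq.respectTransparency.types false

open CategoryTheory CategoryTheory.Limits AlgebraicGeometry Opposite AlgSp TensorProduct
open Groth.Agent.AlgSpQC10 Groth.Agent.AlgSpMor

namespace Groth.Agent.SubExt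

variable {S : Scheme.{u}} {X : Sp S} {M : ModEt X}

set_option maxHeartbeats 1000000 in
/-- A filtered system of submodules with union the whole has the whole as colimit. -/
theorem nonempty_isColimit_of_union {J : Type w} [Category.{v} J] [IsFilteredOrEmpty J] (D : J ⥤ ModEt X)
    (ι : D ⟶ (Functor.const J).obj M) [∀ j, Mono (ι.app j)]
    (h : ∀ (E : EtOver X), IsAffine E.obj.left.left → ∀ m : Msec M E, ∃ (j : J) (x : Msec (D.obj j) E), ap (ι.app j) E x = m) :
    Nonempty (IsColimit (Cocone.mk M ι)) := by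
  classical
  choose L x hx using h
  have hw : ∀ {j k : J} (f : j ⟶ k), D.map f ≫ ι.app k = ι.app j := fun f => by
    exact (ι.naturality f).trans (Category.comp_id _)
  have huniq : ∀ (s : Cocone D) {E : EtOver X}
      (N N' : J) (a : Msec (D.obj N) E) (b : Msec (D.obj N') E),
      ap (ι.app N) E a = ap (ι.app N') E b → ap (s.ι.app N) E a = ap (s.ι.app N') E b := fun s {E} N N' a b e => by
    let f := IsFiltered.leftToMax N N'
    let g := IsFiltered.rightToMax N N'
    have hmid : ap (D.map f) E a = ap (D.map g) E b :=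
      QCart.injective_app_of_mono (R := OEt X) (ι.app (IsFiltered.max N N')) E (by
        show ap (D.map f ≫ ι.app _) E a = ap (D.map g ≫ ι.app _) E b
        rw [hw f, hw g]
        exact e)
    rw [← s.w f, ← s.w g]
    exact congrArg (ap (s.ι.app _) E) hmid
  have hglue : ∀ (s : Cocone D) (E : EtOver X)
      (m : Msec M E), ∃ t : Msec s.pt E, ∀ (W : EtOver X) (hW : IsAffine W.obj.left.left) (f : W ⟶ E),
        rs s.pt f t = ap (s.ι.app (L W hW (rs M f m))) W (x W hW (rs M f m)) := by
    intro s E m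
    let I := Σ W : EtOver X, {f : W ⟶ E // IsAffine W.obj.left.left}
    have hS : Sieve.ofArrows (fun i : I => i.1) (fun i => i.2.1) ∈ etTop X E := by
      refine (etTop X).superset_covering ?_ ((QCart.etBasis X).dense E)
      rintro V g ⟨W, p, q, hW, rfl⟩
      exact (Sieve.mem_ofArrows_iff _ _ _).2 ⟨⟨W, q, hW⟩, p, rfl⟩
    obtain ⟨t, ht⟩ := QCart.exists_glue_sheaf (R := OEt X) s.pt hS
      (fun i => ap (s.ι.app (L i.1 i.2.2 (rs M i.2.1 m))) i.1 (x i.1 i.2.2 (rs M i.2.1 m)))
      (fun V i i' a b e => by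
        show rs s.pt a (ap _ i.1 _) = rs s.pt b (ap _ i'.1 _)
        rw [← ap_rs, ← ap_rs]
        refine huniq s _ _ _ _ ?_
        erw [ap_rs, ap_rs, hx, hx, rs_rs, rs_rs, e]
        rfl)
    exact ⟨t, fun W hW f => ht ⟨W, f, hW⟩⟩
  choose d hd using hglue
  have hext : ∀ (T : ModEt X) {E : EtOver X} (a b : Msec T E),
      (∀ (W : EtOver X) (_ : IsAffine W.obj.left.left) (f : W ⟶ E), rs T f a = rs T f b) → a = b := fun T E a b h => by
    refine QCart.sres_ext_of_mem T ((QCart.etBasis X).dense E) a b fun V g hg => ?_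
    obtain ⟨W, p, q, hW, rfl⟩ := hg
    exact (rs_rs T q p a).symm.trans ((congrArg (rs T p) (h W hW q)).trans (rs_rs T q p b))
  have hchar : ∀ (s : Cocone D) (E : EtOver X) (N : J) (a : Msec (D.obj N) E),
      d s E (ap (ι.app N) E a) = ap (s.ι.app N) E a := fun s E N a => hext _ _ _ fun W hW f => by
    refine (hd s E _ W hW f).trans (Eq.trans ?_ (ap_rs (s.ι.app N) f a))
    refine huniq s _ _ _ _ ?_
    exact (hx W hW _).trans (ap_rs (ι.app N) f a).symm
  have hadd : ∀ s E m m', d s E (m + m') = d s E m + d s E m' := fun s E m m' => hext _ _ _ fun W hW f => by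
    let N₁ := L W hW (rs M f m)
    let N₂ := L W hW (rs M f m')
    let f₁ := IsFiltered.leftToMax N₁ N₂
    let f₂ := IsFiltered.rightToMax N₁ N₂
    rw [map_add, hd s E (m + m') W hW f, hd s E m W hW f, hd s E m' W hW f]
    let y := ap (D.map f₁) W (x W hW (rs M f m)) + ap (D.map f₂) W (x W hW (rs M f m'))
    rw [huniq s _ (IsFiltered.max N₁ N₂) _ y, ← s.w f₁, ← s.w f₂]
    · exact map_add (ap (s.ι.app _) W) _ _
    · rw [hx, show ap (ι.app (IsFiltered.max N₁ N₂)) W y = _ from map_add (ap (ι.app _) W) _ _, map_add]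
      refine congrArg₂ (· + ·) ?_ ?_
      · conv_lhs => rw [← hx W hW (rs M f m), ← hw f₁]
        rfl
      · conv_lhs => rw [← hx W hW (rs M f m'), ← hw f₂]
        rfl
  have hsmul : ∀ (s : Cocone D) (E : EtOver X)
      (c : A E) (m : Msec M E), d s E (c • m) = c • d s E m := fun s E c m => hext _ _ _ fun W hW f => by
    have e1 : rs M f (c • m) = (((OEt X).obj.map f.op).hom c : A W) • rs M f m :=
      QCart.sres_smul (QCart.psh (R := OEt X) M) f c m
    have e2 : rs s.pt f (c • d s E m) = (((OEt X).obj.map f.op).hom c : A W) • rs s.pt f (d s E m) :=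
      QCart.sres_smul (QCart.psh (R := OEt X) s.pt) f c (d s E m)
    rw [e2, hd s E (c • m) W hW f, hd s E m W hW f]
    refine Eq.trans ?_ ((ap (s.ι.app (L W hW (rs M f m))) W).map_smul _ _)
    refine huniq s _ _ _ _ ?_
    refine (hx W hW _).trans (Eq.trans ?_ ((ap (ι.app (L W hW (rs M f m))) W).map_smul _ _).symm)
    rw [e1]
    exact congrArg _ (hx W hW _).symm
  let desc : ∀ s : Cocone D, M ⟶ s.pt := fun s =>
    { val :=
        { app := fun E => ModuleCat.ofHom (X := Msec M E.unop) (Y := Msec s.pt E.unop)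
            { toFun := d s E.unop
              map_add' := hadd s E.unop
              map_smul' := hsmul s E.unop }
          naturality := fun {E E'} g => by
            refine ModuleCat.hom_ext (LinearMap.ext fun m => ?_)
            show d s E'.unop (rs M g.unop m) = rs s.pt g.unop (d s E.unop m)
            refine hext _ _ _ fun W hW f => ?_
            rw [rs_rs, hd s E'.unop _ W hW f, hd s E.unop m W hW (f ≫ g.unop), rs_rs] } }
  refine ⟨{ desc := desc, fac := fun s N => ?_, uniq := fun s m hm => ?_ }⟩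
  · refine SheafOfModules.Hom.ext (PresheafOfModules.hom_ext fun E => ModuleCat.hom_ext (LinearMap.ext fun a => ?_))
    exact hchar s E.unop N a
  · refine SheafOfModules.Hom.ext (PresheafOfModules.hom_ext fun E => ModuleCat.hom_ext (LinearMap.ext fun a => ?_))
    refine hext _ _ _ fun W hW f => ?_
    show rs s.pt f (ap m E.unop a) = rs s.pt f (d s E.unop a)
    rw [← ap_rs, hd s E.unop a W hW f]
    refine (congrArg (ap m W) (hx W hW (rs M f a)).symm).trans ?_
    exact congrArg (fun k => ap k W (x W hW (rs M f a))) (hm (L W hW (rs M f a)))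

variable [M.IsQuasicoherent]

/-- An inclusion of finitely generated submodules is read on a covering affine object. -/
theorem le_of_le_cover {T T' : ∀ E, Submodule (A E) (Msec M E)} (hT : IsFGSub M Set.univ T)
    (hT' : IsFGSub M Set.univ T') {E₀ : EtOver X} (hE₀ : IsAffine E₀.obj.left.left)
    (hcov : ∀ x, x ∈ Set.range (Points.ofPt E₀.obj.hom)) (h : T E₀ ≤ T' E₀) (E : EtOver X)
    (hE : IsAffine E.obj.left.left) : T E ≤ T' E := fun m hm => by
  refine hT'.local_mem (in_univ hE) (sieve_to_cover_mem hcov E) fun {V} hV g hg => ?_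
  obtain ⟨-, l, rfl⟩ := (Sieve.mem_ofArrows_iff _ _ _).1 hg
  refine (show pushSub M (T E₀) (l ≫ EtOver.prodSnd E E₀) ≤ T' V from Submodule.span_le.2 ?_)
    (hT.gen (in_univ hE₀) (in_univ hV) (l ≫ EtOver.prodSnd E E₀) (hT.res (in_univ hE) (in_univ hV) _ m hm))
  rintro _ ⟨y, hy, rfl⟩
  exact hT'.res (in_univ hE₀) (in_univ hV) _ y (h hy)

variable (M) in
/-- Being a quasi-coherent submodule of finite type. -/
abbrev QF : ObjectProperty (Subobject M) :=
  fun N => (Subobject.underlying.obj N).IsQuasicoherent ∧ (Subobject.underlying.obj N).IsFiniteType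

set_option maxHeartbeats 1000000 in
theorem exists_subobject_containing [QuasiSeparatedSpace ↥S] (hA : IsAlgSpace X) (hqc : IsQuasiCompactSp X)
    (hqs : IsQuasiSeparatedSp X) {ι : Type} [Finite ι] (E₀ : ι → EtOver X)
    (hE₀ : ∀ i, IsAffine (E₀ i).obj.left.left) (x : ∀ i, Msec M (E₀ i)) :
    ∃ N : Subobject M, QF M N ∧ ∀ i, x i ∈ LinearMap.range (ap N.arrow (E₀ i)) := by
  obtain ⟨T, hT, h⟩ := exists_containing ⟨X, hA⟩ hqc hqs M E₀ hE₀ x
  let ι' : ((subData hT).shf : ModEt X) ⟶ M := (subData hT).ι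
  haveI : Mono ι' := inferInstanceAs (Mono (subData hT).ι)
  let N := Subobject.mk ι'
  let e : Subobject.underlying.obj N ≅ ((subData hT).shf : ModEt X) := Subobject.underlyingIso ι'
  haveI := isQuasicoherent_subData hT
  haveI := isFiniteType_subData hT
  refine ⟨N, ⟨?_, ?_⟩, fun i => ?_⟩
  · exact (SheafOfModules.isQuasicoherent (R := OEtRing X)).prop_of_iso e.symm ‹_›
  · haveI : (Subobject.underlying.obj N).IsQuasicoherent :=
      (SheafOfModules.isQuasicoherent (R := OEtRing X)).prop_of_iso e.symm ‹_›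
    refine isFiniteType_of_finite _ fun E hE => ?_
    haveI := hE
    haveI := finite_Msec ((subData hT).shf : ModEt X) E
    refine Module.Finite.of_surjective (ap e.inv E) fun y => ⟨ap e.hom E y, ?_⟩
    show ap (e.hom ≫ e.inv) E y = y
    rw [e.hom_inv_id]
    rfl
  · obtain ⟨y, hy⟩ := (range_ι_subData hT (hE₀ i)).ge (h i)
    refine ⟨ap e.inv (E₀ i) y, ?_⟩
    refine Eq.trans ?_ hy
    exact congrArg (fun k : ((subData hT).shf : ModEt X) ⟶ M => ap k (E₀ i) y) (Subobject.underlyingIso_arrow ι')

set_option maxHeartbeats 1000000 in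
theorem isFiltered_qf [QuasiSeparatedSpace ↥S] (hA : IsAlgSpace X) (hqc : IsQuasiCompactSp X)
    (hqs : IsQuasiSeparatedSp X) : IsFiltered (QF M).FullSubcategory := by
  classical
  obtain ⟨E₀, hE₀, hcov⟩ := exists_affine_cover hqc
  haveI := hE₀
  haveI : Nonempty (QF M).FullSubcategory := by
    obtain ⟨N, hN, -⟩ := exists_subobject_containing (M := M) hA hqc hqs
      (fun i : PEmpty.{1} => i.elim) (fun i => i.elim) (fun i => i.elim)
    exact ⟨⟨N, hN⟩⟩
  haveI : IsFilteredOrEmpty (QF M).FullSubcategory := by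
    refine ⟨fun N₁ N₂ => ?_, fun N₁ N₂ f g => ⟨N₂, 𝟙 N₂, ?_⟩⟩
    · haveI := N₁.property.1
      haveI := N₁.property.2
      haveI := N₂.property.1
      haveI := N₂.property.2
      haveI := finite_Msec (Subobject.underlying.obj N₁.obj) E₀
      haveI := finite_Msec (Subobject.underlying.obj N₂.obj) E₀
      obtain ⟨n₁, s₁, hs₁⟩ := Module.Finite.exists_fin (R := A E₀) (M := Msec (Subobject.underlying.obj N₁.obj) E₀)
      obtain ⟨n₂, s₂, hs₂⟩ := Module.Finite.exists_fin (R := A E₀) (M := Msec (Subobject.underlying.obj N₂.obj) E₀)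
      obtain ⟨N, hN, hx⟩ := exists_subobject_containing (M := M) hA hqc hqs
        (fun _ : Fin n₁ ⊕ Fin n₂ => E₀) (fun _ => hE₀)
        (Sum.elim (fun i => ap N₁.obj.arrow E₀ (s₁ i)) fun i => ap N₂.obj.arrow E₀ (s₂ i))
      haveI := hN.1
      have le : ∀ (N' : (QF M).FullSubcategory) [(Subobject.underlying.obj N'.obj).IsQuasicoherent] {n : ℕ}
          (s : Fin n → Msec (Subobject.underlying.obj N'.obj) E₀), Submodule.span (A E₀) (Set.range s) = ⊤ →
          (∀ i, ap N'.obj.arrow E₀ (s i) ∈ LinearMap.range (ap N.arrow E₀)) → N'.obj ≤ N := fun N' _ n s hs hi => by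
        obtain ⟨k, hk⟩ := exists_le_of_range hcov hA N'.obj.arrow N.arrow (by
          rw [LinearMap.range_eq_map, ← hs, Submodule.map_span, Submodule.span_le]
          rintro _ ⟨_, ⟨i, rfl⟩, rfl⟩
          exact hi i)
        exact Subobject.le_of_comm k hk
      exact ⟨⟨N, hN⟩, ObjectProperty.homMk (homOfLE (le N₁ s₁ hs₁ fun i => hx (.inl i))),
        ObjectProperty.homMk (homOfLE (le N₂ s₂ hs₂ fun i => hx (.inr i))), trivial⟩
    · exact ObjectProperty.hom_ext _ (Subsingleton.elim _ _)
  exact {}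

end Groth.Agent.SubExt
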