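import Groth.Agent.SubExt.Ideals
import Groth.Agent.SubExt.Union
import Groth.Agent.AlgSpDec.LimDescentRep
import Groth.Agent.S9997

/-!
# Closed subspaces are limits of closed subspaces of finite presentation
-/

universe u

set_option autoImplicit false
set_option linter.style.haveILetI false
set_option backward.isDefEq.respectTransparency false
set_option backward.isDefEq.respectTransparency.types false

open CategoryTheory CategoryTheory.Limits AlgebraicGeometry Opposite AlgSp
open Groth.Agent.AlgSpQC10 Groth.Agent.AlgSpMor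

namespace Groth.Agent.SubExt

variable {S : Scheme.{u}}

/-- A map to the target of a monomorphism factors as soon as its points do. -/
theorem exists_factor_of_points {X Y P : Sp S} (f : X ⟶ Y) [Mono f] (φ : P ⟶ Y)
    (h : ∀ (T : Over S) (t : (yon S).obj T ⟶ P), ∃ l, l ≫ f = t ≫ φ) : ∃ k, k ≫ f = φ := by
  haveI : IsIso (pullback.fst φ f).hom := by
    refine @NatIso.isIso_of_isIso_app _ _ _ _ _ _ _ fun T => ?_
    rw [isIso_iff_bijective]
    haveI : Mono (pullback.fst φ f) := inferInstance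
    have e : ∀ (x : (pullback φ f).obj.obj T),
        (pullback.fst φ f).hom.app T x = (J S).uliftYonedaEquiv.{u + 1} (((J S).uliftYonedaEquiv.{u + 1}.symm x :
          (yon S).obj T.unop ⟶ pullback φ f) ≫ pullback.fst φ f) := fun x => by
      rw [GrothendieckTopology.uliftYonedaEquiv_comp, Equiv.apply_symm_apply]
    refine ⟨fun a b hab => ?_, fun p => ?_⟩
    · rw [e, e] at hab
      exact (J S).uliftYonedaEquiv.{u + 1}.symm.injective ((cancel_mono (pullback.fst φ f)).1
        ((J S).uliftYonedaEquiv.{u + 1}.injective hab))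
    · obtain ⟨l, hl⟩ := h T.unop ((J S).uliftYonedaEquiv.{u + 1}.symm p)
      refine ⟨(J S).uliftYonedaEquiv.{u + 1} (pullback.lift _ l hl.symm), ?_⟩
      rw [e, Equiv.symm_apply_apply, pullback.lift_fst, Equiv.apply_symm_apply]
  haveI : IsIso ((sheafToPresheaf (J S) (Type (u + 1))).map (pullback.fst φ f)) :=
    ‹IsIso (pullback.fst φ f).hom›
  haveI : IsIso (pullback.fst φ f) := isIso_of_reflects_iso _ (sheafToPresheaf (J S) (Type (u + 1)))
  exact ⟨inv (pullback.fst φ f) ≫ pullback.snd φ f, by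
    rw [Category.assoc, ← pullback.condition, IsIso.inv_hom_id_assoc]⟩

theorem isFGSub_idealFam {X : Sp S} {I : IdealEt X} (hI : I.IsQCoh)
    (hfg : ∀ E (hE : IsAffine E.obj.left.left), (I.ideal E hE).FG) :
    IsFGSub (unitModEt X) Set.univ (idealFam I) :=
  ⟨fun hE hE' g x hx => idealFam_res I hE.1 hE'.1 g x hx, fun hE hE' g => idealFam_gen hI hE.1 hE'.1 g,
    fun {E} hE => by
      show (asIdeal (idealFam I E)).FG
      rw [show asIdeal (idealFam I E) = (I.ideal E hE.1).map (down E).symm.toRingHom by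
        rw [idealFam, dif_pos hE.1]; exact (Ideal.map_symm (down E)).symm]
      exact Ideal.FG.map (hfg E hE.1) _⟩

theorem le_of_ideal_le_cover {X : Sp S} {I J : IdealEt X} (hI : I.IsQCoh)
    (hIfg : ∀ E (hE : IsAffine E.obj.left.left), (I.ideal E hE).FG) (hJ : J.IsQCoh)
    (hJfg : ∀ E (hE : IsAffine E.obj.left.left), (J.ideal E hE).FG) {E₀ : EtOver X}
    (hE₀ : IsAffine E₀.obj.left.left) (hcov : ∀ x, x ∈ Set.range (Points.ofPt E₀.obj.hom))
    (h : I.ideal E₀ hE₀ ≤ J.ideal E₀ hE₀) : I ≤ J := fun E hE f hf => by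
  haveI := isQuasicoherent_unit (X := X)
  have h1 := le_of_le_cover (isFGSub_idealFam hI hIfg) (isFGSub_idealFam hJ hJfg) hE₀ hcov
    (fun x hx => by rw [mem_idealFam J hE₀]; exact h ((mem_idealFam I hE₀ x).1 hx)) E hE
  have h2 : ((down E).symm f : Msec (unitModEt X) E) ∈ idealFam I E := by
    rw [mem_idealFam I hE]; simpa using hf
  simpa using (mem_idealFam J hE _).1 (h1 h2)

variable [QuasiSeparatedSpace ↥S]

set_option maxHeartbeats 1600000 in
/-- A closed subspace is the limit of the closed subspaces of finite presentation containing it. -/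
theorem exists_limit_closed {X Y : Space S} (f : X ⟶ Y) (hf : RepWith @IsClosedImmersion f.hom)
    (hYqc : IsQuasiCompactSp Y.obj) (hYqs : IsQuasiSeparatedSp Y.obj) :
    ∃ (I : Type u) (_ : Preorder I) (_ : IsDirected I (fun a b => a ≤ b)) (_ : Nonempty I) (D : Iᵒᵖ ⥤ Sp S)
      (t : D ⟶ (Functor.const Iᵒᵖ).obj Y.obj) (c : Cone D) (_ : IsLimit c) (e : c.pt ≅ X.obj),
      (∀ i, IsAlgSpace (D.obj i)) ∧ (∀ (i j : Iᵒᵖ) (φ : i ⟶ j), RepWith @IsClosedImmersion (D.map φ)) ∧
      (∀ i, RepWith @IsClosedImmersion (t.app i) ∧ IsFinitePresentationMor (t.app i)) ∧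
        (∀ i, e.inv ≫ c.π.app i ≫ t.app i = f.hom) := by
  classical
  let K : IdealEt Y.obj := idealOfRep hf.1
  have hK : K.IsQCoh := AlgSpDec.isQCoh_idealOfRep hf.1 (AlgSpPts.isQuasiCompactMor_of_repWith
    (AlgSpLib.repWith_mono (fun _ _ g (_ : IsClosedImmersion g) => (inferInstance : QuasiCompact g)) _ hf))
  obtain ⟨E₀, hE₀, hcov⟩ := exists_affine_cover hYqc
  let P : IdealEt Y.obj → Prop := fun K' => K'.IsQCoh ∧
    (∀ E (hE : IsAffine E.obj.left.left), (K'.ideal E hE).FG) ∧ K' ≤ K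
  let I := { N : Ideal Γ(E₀.obj.left.left, ⊤) // ∃ K', P K' ∧ K'.ideal E₀ hE₀ = N }
  choose idl hidl hidl₀ using fun a : I => a.2
  have hle : ∀ {a b : I}, a.1 ≤ b.1 → idl a ≤ idl b := fun {a b} h =>
    le_of_ideal_le_cover (hidl a).1 (hidl a).2.1 (hidl b).1 (hidl b).2.1 hE₀ hcov
      (by rw [hidl₀, hidl₀]; exact h)
  have hdir : IsDirected I (fun a b => a ≤ b) := ⟨fun a b => by
    refine ⟨⟨a.1 ⊔ b.1, max (idl a) (idl b), ⟨fun E E' g hE hE' => ?_,
      fun E hE => Submodule.FG.sup ((hidl a).2.1 E hE) ((hidl b).2.1 E hE),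
      fun E hE => sup_le ((hidl a).2.2 E hE) ((hidl b).2.2 E hE)⟩, ?_⟩, le_sup_left (b := b.1), le_sup_right (a := a.1)⟩
    · show (idl a).ideal E' hE' ⊔ (idl b).ideal E' hE' ≤ ((idl a).ideal E hE ⊔ (idl b).ideal E hE).map _
      rw [Ideal.map_sup]
      exact sup_le_sup ((hidl a).1 g hE hE') ((hidl b).1 g hE hE')
    · show (idl a).ideal E₀ hE₀ ⊔ (idl b).ideal E₀ hE₀ = a.1 ⊔ b.1
      rw [hidl₀, hidl₀]⟩
  have hne : Nonempty I := ⟨⟨⊥, ⊥, ⟨fun E E' g hE hE' => bot_le, fun E hE => Submodule.fg_bot, fun E hE => bot_le⟩, rfl⟩⟩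
  have hsur : ∀ K', P K' → ∃ a : I, K' ≤ idl a := fun K' hK' => ⟨⟨_, K', hK', rfl⟩,
    le_of_ideal_le_cover hK'.1 hK'.2.1 (hidl _).1 (hidl _).2.1 hE₀ hcov (by rw [hidl₀])⟩
  choose Z z hz using fun a : I => AlgSpDec.exists_isCutOutBy (hidl a).1 Y.property
  choose hzc hzI using hz
  have hzm : ∀ a, Mono (z a) := fun a => AlgSpDec.mono_of_closedImmersion (hzc a)
  have hfac : ∀ {a b : I}, a ≤ b → ∃ k, k ≫ z a = z b := fun {a b} h =>
    (AlgSpDec.idealOfRep_le_iff Y.property (hzc a) (hzc b)).1 (by rw [hzI, hzI]; exact hle h)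
  choose k hk using @hfac
  let D : Iᵒᵖ ⥤ Sp S :=
    { obj := fun a => (Z a.unop).obj
      map := fun {a b} g => k (leOfHom g.unop)
      map_id := fun a => (cancel_mono (z a.unop)).1 (by rw [hk, Category.id_comp])
      map_comp := fun {a b c} g g' => (cancel_mono (z c.unop)).1 (by rw [hk, Category.assoc, hk, hk]) }
  let t : D ⟶ (Functor.const Iᵒᵖ).obj Y.obj :=
    { app := fun a => z a.unop
      naturality := fun a b g => (hk _).trans (Category.comp_id _).symm }
  have hπ : ∀ a : I, ∃ p, p ≫ z a = f.hom := fun a =>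
    (AlgSpDec.idealOfRep_le_iff Y.property (hzc a) hf).1 (by rw [hzI]; exact (hidl a).2.2)
  choose p hp using hπ
  let c : Cone D :=
    { pt := X.obj
      π := { app := fun a => p a.unop
             naturality := fun a b g => (cancel_mono (z b.unop)).1 (by
               show (𝟙 _ ≫ p b.unop) ≫ z b.unop = (p a.unop ≫ k _) ≫ z b.unop
               rw [Category.id_comp, hp, Category.assoc, hk, hp]) } }
  haveI := AlgSpDec.mono_of_closedImmersion hf
  have hlift : ∀ s : Cone D, ∃ l : s.pt ⟶ X.obj, ∀ a, (l ≫ f.hom) = s.π.app a ≫ z a.unop := fun s => by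
    obtain ⟨a₀⟩ := hne
    let φ := s.π.app (op a₀) ≫ z a₀
    have hφ : ∀ a : Iᵒᵖ, s.π.app a ≫ z a.unop = φ := fun a => by
      obtain ⟨b, hb, hb'⟩ := hdir.directed a.unop a₀
      have e1 := s.w (homOfLE hb).op
      have e2 := s.w (homOfLE hb').op
      show _ = s.π.app (op a₀) ≫ z a₀
      rw [← e2, ← e1, Category.assoc, Category.assoc]
      show s.π.app (op b) ≫ k hb ≫ z a.unop = s.π.app (op b) ≫ k hb' ≫ z a₀
      rw [hk, hk]
    obtain ⟨l, hl⟩ := exists_factor_of_points f.hom φ fun T τ => by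
      have hh : Representable (τ ≫ φ) := Y.property.representable_from_yon _
      refine (AlgSpDec.idealOfRep_le_iff_factor (IsAlgSpace.yon_obj T) Y.property hf hh).1 fun E hE x hx => ?_
      obtain ⟨K', hq, hfg, hle', hx'⟩ := exists_fg_ideal_le Y.property hYqc hYqs hK E hE {x} fun y hy => by
        rw [Finset.mem_singleton] at hy
        exact hy ▸ hx
      obtain ⟨a, ha⟩ := hsur K' ⟨hq, hfg, hle'⟩
      have h2 := (AlgSpDec.idealOfRep_le_iff_factor (IsAlgSpace.yon_obj T) Y.property (hzc a) hh).2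
        ⟨τ ≫ s.π.app (op a), by rw [Category.assoc, show s.π.app (op a) ≫ z a = φ from hφ (op a)]⟩
      rw [hzI] at h2
      exact h2 E hE (ha E hE (hx' x (Finset.mem_singleton_self x)))
    exact ⟨l, fun a => hl.trans (hφ a).symm⟩
  choose L hL using hlift
  let hc : IsLimit c :=
    { lift := L
      fac := fun s a => (cancel_mono (z a.unop)).1 (by
        show (L s ≫ p a.unop) ≫ z a.unop = _
        rw [Category.assoc, hp, hL s a])
      uniq := fun s l hl => (cancel_mono f.hom).1 (by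
        obtain ⟨a₀⟩ := hne
        rw [hL s (op a₀), ← hl (op a₀), Category.assoc]
        exact congrArg (l ≫ ·) (hp a₀).symm) }
  refine ⟨I, inferInstance, hdir, hne, D, t, c, hc, Iso.refl _, fun a => (Z a.unop).property, fun a b g => ?_,
    fun a => ⟨hzc a.unop, ?_, ?_, ?_⟩, fun a => ?_⟩
  · exact LimPresLib.repWith_of_comp_mono (z b.unop) (by rw [hk]; exact hzc a.unop)
  · refine (Groth.Agent.S9997.result (ObjectProperty.homMk (z a.unop) : Z a.unop ⟶ Y) (hzc a.unop)).2 fun E hE => ?_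
    show ((idealOfRep (hzc a.unop).1).ideal E hE).FG
    rw [hzI]
    exact (hidl a.unop).2.1 E hE
  · exact AlgSpPts.isQuasiCompactMor_of_repWith
      (AlgSpLib.repWith_mono (fun _ _ g (_ : IsClosedImmersion g) => (inferInstance : QuasiCompact g)) _ (hzc a.unop))
  · exact AlgSpDec.isQuasiSeparatedMor_of_isSeparatedMor (AlgSpDec.isSeparatedMor_of_repWith_affine
      (AlgSpLib.repWith_mono (fun _ _ g (_ : IsClosedImmersion g) => inferInstanceAs (IsAffineHom g)) _ (hzc a.unop)))
  · show 𝟙 _ ≫ p a.unop ≫ z a.unop = f.hom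
    rw [Category.id_comp, hp]

end Groth.Agent.SubExt
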