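import Groth.Agent.SubExt.FPBase

/-!
# Modules of finite type form a set up to isomorphism
-/

universe u

set_option autoImplicit false
set_option linter.style.haveILetI false
set_option backward.isDefEq.respectTransparency false
set_option backward.isDefEq.respectTransparency.types false

open CategoryTheory CategoryTheory.Limits AlgebraicGeometry Opposite AlgSp TensorProduct
open Groth.Agent.AlgSpQC10 Groth.Agent.AlgSpMor

namespace Groth.Agent.SubExt

variable {S : Scheme.{u}} {X : Sp S} (E₀ : EtOver X)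

/-- Affine objects mapping to a fixed object and to a given one. -/
def PieceIdx (E : EtOver X) : Type (u + 1) :=
  Σ W : EtOver X, {p : (W ⟶ E₀) × (W ⟶ E) // IsAffine W.obj.left.left}

variable {E₀} {n : ℕ}

/-- The coordinates of a section on the pieces in given generators. -/
def coords {G : ModEt X} (s : Fin n → Msec G E₀) {E : EtOver X} (m : Msec G E) (i : PieceIdx E₀ E) :
    Set (Fin n → A i.1) :=
  {c | ∑ k, c k • rs G i.2.1.1 (s k) = rs G i.2.1.2 m}

variable {G G' : ModEt X} [G.IsQuasicoherent] {s : Fin n → Msec G E₀} {s' : Fin n → Msec G' E₀}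
  (hE₀ : IsAffine E₀.obj.left.left) (hcov : ∀ x, x ∈ Set.range (Points.ofPt E₀.obj.hom))

include hE₀ in
theorem nonempty_coords (hs : Submodule.span (A E₀) (Set.range s) = ⊤) {E : EtOver X} (m : Msec G E)
    (i : PieceIdx E₀ E) : (coords s m i).Nonempty := by
  obtain ⟨z, hz⟩ := (isCart G hE₀ i.2.2 i.2.1.1).2 (QCart.toSec i.2.1.1 (QCart.psh (R := OEt X) G) (rs G i.2.1.2 m))
  suffices key : (show Msec G i.1 from QCart.bcMap i.2.1.1 (QCart.psh (R := OEt X) G) z) ∈
      Submodule.span (A i.1) (Set.range fun k => rs G i.2.1.1 (s k)) by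
    rw [hz] at key
    obtain ⟨c, hc⟩ := (Submodule.mem_span_range_iff_exists_fun (A i.1)).1 key
    exact ⟨c, hc⟩
  clear hz
  induction z using TensorProduct.induction_on with
  | zero => rw [map_zero]; exact zero_mem _
  | add p q hp hq => rw [map_add]; exact add_mem hp hq
  | tmul b x =>
    rw [QCart.bcMap_tmul]
    refine Submodule.smul_mem _ (show A i.1 from b) ?_
    have hx : x ∈ Submodule.span (A E₀) (Set.range s) := hs.symm ▸ Submodule.mem_top
    induction hx using Submodule.span_induction with
    | mem x hx =>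
      obtain ⟨k, rfl⟩ := hx
      exact Submodule.subset_span ⟨k, rfl⟩
    | zero => exact (map_zero (rs G i.2.1.1)).symm ▸ zero_mem _
    | add x y _ _ hx hy => exact (map_add (rs G i.2.1.1) x y).symm ▸ add_mem hx hy
    | smul a x _ hx =>
      refine (QCart.sres_smul (QCart.psh (R := OEt X) G) i.2.1.1 a x :
        rs G i.2.1.1 (a • x) = _).symm ▸ Submodule.smul_mem _ _ hx

variable {H : ModEt X} {t : Fin n → Msec H E₀}

include hcov in
theorem eq_of_coords {E : EtOver X} {m m' : Msec H E}
    (h : ∀ i : PieceIdx E₀ E, (coords t m i ∩ coords t m' i).Nonempty) : m = m' :=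
  ext_of_sieve H (sieve_to_cover_mem hcov E) m m' fun {V} hV g hg => by
    obtain ⟨-, l, rfl⟩ := (Sieve.mem_ofArrows_iff _ _ _).1 hg
    obtain ⟨c, hc, hc'⟩ := h ⟨V, (l ≫ EtOver.prodSnd E E₀, l ≫ EtOver.prodFst E E₀), hV⟩
    exact (show _ = _ from hc).symm.trans hc'

theorem coords_rs {E E' : EtOver X} (u : E' ⟶ E) (m : Msec H E) (i : PieceIdx E₀ E') :
    coords t (rs H u m) i = coords t m ⟨i.1, (i.2.1.1, i.2.1.2 ≫ u), i.2.2⟩ := by
  refine Set.ext fun c => ?_
  show _ = rs H i.2.1.2 (rs H u m) ↔ _ = rs H (i.2.1.2 ≫ u) m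
  rw [rs_rs]

theorem add_mem_coords {E : EtOver X} {m m' : Msec H E} {i : PieceIdx E₀ E} {c c' : Fin n → A i.1}
    (h : c ∈ coords t m i) (h' : c' ∈ coords t m' i) : c + c' ∈ coords t (m + m') i := by
  show ∑ k, (c + c') k • _ = _
  rw [map_add, ← (show _ = rs H i.2.1.2 m from h), ← (show _ = rs H i.2.1.2 m' from h'), ← Finset.sum_add_distrib]
  exact Finset.sum_congr rfl fun k _ => add_smul _ _ _

theorem smul_mem_coords {E : EtOver X} (a : A E) {m : Msec H E} {i : PieceIdx E₀ E} {c : Fin n → A i.1}
    (h : c ∈ coords t m i) :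
    (fun k => (((OEt X).obj.map i.2.1.2.op).hom a : A i.1) * c k) ∈ coords t (a • m) i := by
  show ∑ k, _ • _ = rs H i.2.1.2 (a • m)
  rw [show rs H i.2.1.2 (a • m) = _ from QCart.sres_smul (QCart.psh (R := OEt X) H) i.2.1.2 a m]
  refine Eq.trans ?_ (congrArg (_ • ·) (show _ = rs H i.2.1.2 m from h))
  rw [Finset.smul_sum]
  exact Finset.sum_congr rfl fun k _ => mul_smul _ _ _

variable [G'.IsQuasicoherent]

include hE₀ hcov in
set_option maxHeartbeats 800000 in
/-- Generated modules with the same coordinates are isomorphic. -/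
theorem nonempty_iso_of_coords (hs : Submodule.span (A E₀) (Set.range s) = ⊤)
    (hs' : Submodule.span (A E₀) (Set.range s') = ⊤)
    (h : ∀ E : EtOver X, Set.range (fun (m : Msec G E) i => coords s m i) =
      Set.range (fun (m : Msec G' E) i => coords s' m i)) : Nonempty (G ≅ G') := by
  choose φ hφ using fun (E : EtOver X) (m : Msec G E) =>
    (Set.ext_iff.1 (h E) (fun i => coords s m i)).1 ⟨m, rfl⟩
  have hφ' : ∀ E m i, coords s' (φ E m) i = coords s m i := fun E m i => congrFun (hφ E m) i
  have huniq : ∀ {E} m (m' : Msec G' E), (∀ i, (coords s m i ∩ coords s' m' i).Nonempty) → φ E m = m' :=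
    fun {E} m m' hm => eq_of_coords hcov fun i => by rw [hφ']; exact hm i
  let F : G ⟶ G' :=
    { val :=
        { app := fun E => ModuleCat.ofHom (X := Msec G E.unop) (Y := Msec G' E.unop)
            { toFun := φ E.unop
              map_add' := fun m m' => huniq _ _ fun i => by
                obtain ⟨c, hc⟩ := nonempty_coords hE₀ hs m i
                obtain ⟨c', hc'⟩ := nonempty_coords hE₀ hs m' i
                exact ⟨c + c', add_mem_coords hc hc',
                  add_mem_coords ((hφ' _ m i).symm ▸ hc) ((hφ' _ m' i).symm ▸ hc')⟩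
              map_smul' := fun a m => huniq _ _ fun i => by
                obtain ⟨c, hc⟩ := nonempty_coords hE₀ hs m i
                exact ⟨_, smul_mem_coords a hc, smul_mem_coords a ((hφ' _ m i).symm ▸ hc)⟩ }
          naturality := fun {E E'} g => by
            refine ModuleCat.hom_ext (LinearMap.ext fun m => ?_)
            show φ E'.unop (rs G g.unop m) = rs G' g.unop (φ E.unop m)
            refine huniq _ _ fun i => ?_
            rw [coords_rs, coords_rs, hφ', Set.inter_self]
            exact nonempty_coords hE₀ hs m _ } }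
  have hb : ∀ E, Function.Bijective (ap F E) := fun E => by
    refine ⟨fun m m' e => eq_of_coords (t := s) hcov fun i => ?_, fun m' => ?_⟩
    · have e' : φ E m = φ E m' := e
      rw [← hφ' E m i, ← hφ' E m' i, e', Set.inter_self, hφ']
      exact nonempty_coords hE₀ hs m' i
    · obtain ⟨m, hm⟩ := (Set.ext_iff.1 (h E) (fun i => coords s' m' i)).2 ⟨m', rfl⟩
      exact ⟨m, huniq m m' fun i => by
        rw [show coords s m i = coords s' m' i from congrFun hm i, Set.inter_self]
        exact nonempty_coords hE₀ hs' m' i⟩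
  haveI : IsIso F.val := by
    haveI : IsIso ((PresheafOfModules.toPresheaf _).map F.val) := by
      refine @NatIso.isIso_of_isIso_app _ _ _ _ _ _ _ fun E => ?_
      exact (ConcreteCategory.isIso_iff_bijective _).2 (hb E.unop)
    exact isIso_of_reflects_iso F.val (PresheafOfModules.toPresheaf _)
  haveI : IsIso ((SheafOfModules.forget (OEtRing X)).map F) := ‹IsIso F.val›
  haveI : IsIso F := isIso_of_reflects_iso F (SheafOfModules.forget _)
  exact ⟨asIso F⟩

include hE₀ hcov in
/-- A set indexing the isomorphism classes of modules of finite type. -/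
theorem exists_code :
    ∃ (Code : Type (u + 1)) (code : ∀ G : ModEt X, G.IsQuasicoherent → Module.Finite (A E₀) (Msec G E₀) → Code),
      ∀ G G' h₁ h₂ h₁' h₂', code G h₁ h₂ = code G' h₁' h₂' → Nonempty (G ≅ G') := by
  classical
  refine ⟨Σ n : ℕ, ∀ E : EtOver X, Set (∀ i : PieceIdx E₀ E, Set (Fin n → A i.1)),
    fun G h₁ h₂ => ⟨(h₂.exists_fin (R := A E₀) (M := Msec G E₀)).choose, fun E =>
      Set.range fun (m : Msec G E) i => coords (h₂.exists_fin (R := A E₀) (M := Msec G E₀)).choose_spec.choose m i⟩,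
    fun G G' h₁ h₂ h₁' h₂' e => ?_⟩
  have key : ∀ (n n' : ℕ) (s : Fin n → Msec G E₀) (s' : Fin n' → Msec G' E₀),
      Submodule.span (A E₀) (Set.range s) = ⊤ → Submodule.span (A E₀) (Set.range s') = ⊤ →
      (⟨n, fun E => Set.range fun (m : Msec G E) i => coords s m i⟩ :
        Σ n : ℕ, ∀ E : EtOver X, Set (∀ i : PieceIdx E₀ E, Set (Fin n → A i.1))) =
        ⟨n', fun E => Set.range fun (m : Msec G' E) i => coords s' m i⟩ → Nonempty (G ≅ G') := by
    intro n n' s s' hs hs' e
    obtain ⟨rfl, e2⟩ := Sigma.mk.inj_iff.1 e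
    haveI := h₁
    haveI := h₁'
    exact nonempty_iso_of_coords hE₀ hcov hs hs' fun E => congrFun (eq_of_heq e2) E
  exact key _ _ _ _ (h₂.exists_fin (R := A E₀) (M := Msec G E₀)).choose_spec.choose_spec
    (h₂'.exists_fin (R := A E₀) (M := Msec G' E₀)).choose_spec.choose_spec e

end Groth.Agent.SubExt
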