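import Groth.Agent.SubExt.FPBase

/-!
# Filtered colimits of modules from their sections on affine objects
-/

universe w v u

set_option autoImplicit false
set_option linter.style.haveILetI false
set_option backward.isDefEq.respectTransparency false
set_option backward.isDefEq.respectTransparency.types false

open CategoryTheory CategoryTheory.Limits AlgebraicGeometry Opposite AlgSp TensorProduct
open Groth.Agent.AlgSpQC10 Groth.Agent.AlgSpMor

namespace Groth.Agent.SubExt

variable {S : Scheme.{u}} {X : Sp S} {M : ModEt X}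

set_option maxHeartbeats 1000000 in
/-- A filtered system of modules hitting every section, whose kernels vanish along the system, has the target as colimit. -/
theorem nonempty_isColimit_of_elements {J : Type w} [Category.{v} J] [IsFilteredOrEmpty J] (D : J ⥤ ModEt X)
    (ι : D ⟶ (Functor.const J).obj M)
    (h0 : ∀ (E : EtOver X), IsAffine E.obj.left.left → ∀ (j : J) (a : Msec (D.obj j) E), ap (ι.app j) E a = 0 →
      ∃ (k : J) (f : j ⟶ k), ap (D.map f) E a = 0)
    (h : ∀ (E : EtOver X), IsAffine E.obj.left.left → ∀ m : Msec M E, ∃ (j : J) (x : Msec (D.obj j) E), ap (ι.app j) E x = m) :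
    Nonempty (IsColimit (Cocone.mk M ι)) := by
  classical
  choose L x hx using h
  have hw : ∀ {j k : J} (f : j ⟶ k), D.map f ≫ ι.app k = ι.app j := fun f => by
    exact (ι.naturality f).trans (Category.comp_id _)
  have huniq : ∀ (s : Cocone D) {E : EtOver X}
      (N N' : J) (a : Msec (D.obj N) E) (b : Msec (D.obj N') E),
      ap (ι.app N) E a = ap (ι.app N') E b → ap (s.ι.app N) E a = ap (s.ι.app N') E b := fun s {E} N N' a b e => by
    refine ext_of_affine s.pt _ _ fun W hW r => ?_
    refine (ap_rs (s.ι.app N) r a).symm.trans (Eq.trans ?_ (ap_rs (s.ι.app N') r b))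
    let f := IsFiltered.leftToMax N N'
    let g := IsFiltered.rightToMax N N'
    obtain ⟨k, p, hp⟩ := h0 W hW (IsFiltered.max N N') (ap (D.map f) W (rs _ r a) - ap (D.map g) W (rs _ r b)) (by
      rw [map_sub, sub_eq_zero]
      show ap (D.map f ≫ ι.app _) W (rs _ r a) = ap (D.map g ≫ ι.app _) W (rs _ r b)
      rw [hw f, hw g]
      exact (ap_rs (ι.app N) r a).trans ((congrArg (rs M r) e).trans (ap_rs (ι.app N') r b).symm))
    rw [map_sub, sub_eq_zero] at hp
    rw [← s.w f, ← s.w g, ← s.w p]
    exact congrArg (ap (s.ι.app k) W) hp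
  have hglue : ∀ (s : Cocone D) (E : EtOver X)
      (m : Msec M E), ∃ t : Msec s.pt E, ∀ (W : EtOver X) (hW : IsAffine W.obj.left.left) (f : W ⟶ E),
        rs s.pt f t = ap (s.ι.app (L W hW (rs M f m))) W (x W hW (rs M f m)) := by
    intro s E m
    let I := Σ W : EtOver X, {f : W ⟶ E // IsAffine W.obj.left.left}
    have hS : Sieve.ofArrows (fun i : I => i.1) (fun i => i.2.1) ∈ etTop X E := by
      refine (etTop X).superset_covering ?_ ((QCart.etBasis X).dense E)
      rintro V g ⟨W, p, q, hW, rfl⟩
      exact (Sieve.mem_ofArrows_iff _ _ _).2 ⟨⟨W, q, hW⟩, p, rfl⟩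
    obtain ⟨t, ht⟩ := QCart.exists_glue_sheaf (R := OEt X) s.pt hS
      (fun i => ap (s.ι.app (L i.1 i.2.2 (rs M i.2.1 m))) i.1 (x i.1 i.2.2 (rs M i.2.1 m)))
      (fun V i i' a b e => by
        show rs s.pt a (ap _ i.1 _) = rs s.pt b (ap _ i'.1 _)
        rw [← ap_rs, ← ap_rs]
        refine huniq s _ _ _ _ ?_
        erw [ap_rs, ap_rs, hx, hx, rs_rs, rs_rs, e]
        rfl)
    exact ⟨t, fun W hW f => ht ⟨W, f, hW⟩⟩
  choose d hd using hglue
  have hext : ∀ (T : ModEt X) {E : EtOver X} (a b : Msec T E),
      (∀ (W : EtOver X) (_ : IsAffine W.obj.left.left) (f : W ⟶ E), rs T f a = rs T f b) → a = b := fun T E a b h => by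
    refine QCart.sres_ext_of_mem T ((QCart.etBasis X).dense E) a b fun V g hg => ?_
    obtain ⟨W, p, q, hW, rfl⟩ := hg
    exact (rs_rs T q p a).symm.trans ((congrArg (rs T p) (h W hW q)).trans (rs_rs T q p b))
  have hchar : ∀ (s : Cocone D) (E : EtOver X) (N : J) (a : Msec (D.obj N) E),
      d s E (ap (ι.app N) E a) = ap (s.ι.app N) E a := fun s E N a => hext _ _ _ fun W hW f => by
    refine (hd s E _ W hW f).trans (Eq.trans ?_ (ap_rs (s.ι.app N) f a))
    refine huniq s _ _ _ _ ?_
    exact (hx W hW _).trans (ap_rs (ι.app N) f a).symm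
  have hadd : ∀ s E m m', d s E (m + m') = d s E m + d s E m' := fun s E m m' => hext _ _ _ fun W hW f => by
    let N₁ := L W hW (rs M f m)
    let N₂ := L W hW (rs M f m')
    let f₁ := IsFiltered.leftToMax N₁ N₂
    let f₂ := IsFiltered.rightToMax N₁ N₂
    rw [map_add, hd s E (m + m') W hW f, hd s E m W hW f, hd s E m' W hW f]
    let y := ap (D.map f₁) W (x W hW (rs M f m)) + ap (D.map f₂) W (x W hW (rs M f m'))
    rw [huniq s _ (IsFiltered.max N₁ N₂) _ y, ← s.w f₁, ← s.w f₂]
    · exact map_add (ap (s.ι.app _) W) _ _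
    · rw [hx, show ap (ι.app (IsFiltered.max N₁ N₂)) W y = _ from map_add (ap (ι.app _) W) _ _, map_add]
      refine congrArg₂ (· + ·) ?_ ?_
      · conv_lhs => rw [← hx W hW (rs M f m), ← hw f₁]
        rfl
      · conv_lhs => rw [← hx W hW (rs M f m'), ← hw f₂]
        rfl
  have hsmul : ∀ (s : Cocone D) (E : EtOver X)
      (c : A E) (m : Msec M E), d s E (c • m) = c • d s E m := fun s E c m => hext _ _ _ fun W hW f => by
    have e1 : rs M f (c • m) = (((OEt X).obj.map f.op).hom c : A W) • rs M f m :=
      QCart.sres_smul (QCart.psh (R := OEt X) M) f c m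
    have e2 : rs s.pt f (c • d s E m) = (((OEt X).obj.map f.op).hom c : A W) • rs s.pt f (d s E m) :=
      QCart.sres_smul (QCart.psh (R := OEt X) s.pt) f c (d s E m)
    rw [e2, hd s E (c • m) W hW f, hd s E m W hW f]
    refine Eq.trans ?_ ((ap (s.ι.app (L W hW (rs M f m))) W).map_smul _ _)
    refine huniq s _ _ _ _ ?_
    refine (hx W hW _).trans (Eq.trans ?_ ((ap (ι.app (L W hW (rs M f m))) W).map_smul _ _).symm)
    rw [e1]
    exact congrArg _ (hx W hW _).symm
  let desc : ∀ s : Cocone D, M ⟶ s.pt := fun s =>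
    { val :=
        { app := fun E => ModuleCat.ofHom (X := Msec M E.unop) (Y := Msec s.pt E.unop)
            { toFun := d s E.unop
              map_add' := hadd s E.unop
              map_smul' := hsmul s E.unop }
          naturality := fun {E E'} g => by
            refine ModuleCat.hom_ext (LinearMap.ext fun m => ?_)
            show d s E'.unop (rs M g.unop m) = rs s.pt g.unop (d s E.unop m)
            refine hext _ _ _ fun W hW f => ?_
            rw [rs_rs, hd s E'.unop _ W hW f, hd s E.unop m W hW (f ≫ g.unop), rs_rs] } }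
  refine ⟨{ desc := desc, fac := fun s N => ?_, uniq := fun s m hm => ?_ }⟩
  · refine SheafOfModules.Hom.ext (PresheafOfModules.hom_ext fun E => ModuleCat.hom_ext (LinearMap.ext fun a => ?_))
    exact hchar s E.unop N a
  · refine SheafOfModules.Hom.ext (PresheafOfModules.hom_ext fun E => ModuleCat.hom_ext (LinearMap.ext fun a => ?_))
    refine hext _ _ _ fun W hW f => ?_
    show rs s.pt f (ap m E.unop a) = rs s.pt f (d s E.unop a)
    rw [← ap_rs, hd s E.unop a W hW f]
    refine (congrArg (ap m W) (hx W hW (rs M f a)).symm).trans ?_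
    exact congrArg (fun k => ap k W (x W hW (rs M f a))) (hm (L W hW (rs M f a)))

end Groth.Agent.SubExt
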