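import Groth.Agent.SubExt.FPExists
import Groth.Agent.SubExt.Colim
import Groth.Agent.SubExt.Codes

/-!
# A quasi-coherent module is a filtered colimit of modules of finite presentation
-/

universe u

set_option autoImplicit false
set_option linter.style.haveILetI false
set_option backward.isDefEq.respectTransparency false
set_option backward.isDefEq.respectTransparency.types false

open CategoryTheory CategoryTheory.Limits AlgebraicGeometry Opposite AlgSp TensorProduct
open Groth.Agent.AlgSpQC10 Groth.Agent.AlgSpMor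

namespace Groth.Agent.SubExt

variable {S : Scheme.{u}} {X : Sp S}

/-- Maps out of a quasi-coherent module are determined on a covering affine object. -/
theorem hom_ext_of_cover {E₀ : EtOver X} (hE₀ : IsAffine E₀.obj.left.left)
    (hcov : ∀ x, x ∈ Set.range (Points.ofPt E₀.obj.hom)) {G H : ModEt X} [G.IsQuasicoherent] (f g : G ⟶ H)
    (h : ∀ m, ap f E₀ m = ap g E₀ m) : f = g := by
  refine SheafOfModules.Hom.ext (PresheafOfModules.hom_ext fun E => ModuleCat.hom_ext (LinearMap.ext fun m => ?_))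
  show ap f E.unop m = ap g E.unop m
  refine ext_of_sieve H (sieve_to_cover_mem hcov E.unop) _ _ fun {V} hV a ha => ?_
  obtain ⟨-, l, rfl⟩ := (Sieve.mem_ofArrows_iff _ _ _).1 ha
  rw [← ap_rs, ← ap_rs]
  have hm := top_le_pushSub G hE₀ hV (l ≫ EtOver.prodSnd E.unop E₀)
    (Submodule.mem_top (x := rs G (l ≫ EtOver.prodFst E.unop E₀) m))
  generalize rs G (l ≫ EtOver.prodFst E.unop E₀) m = z at hm ⊢
  induction hm using Submodule.span_induction with
  | mem x hx =>
    obtain ⟨y, -, rfl⟩ := hx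
    rw [ap_rs, ap_rs, h]
  | zero => rw [map_zero, map_zero]
  | add x y _ _ hx hy => rw [map_add, map_add, hx, hy]
  | smul c x _ hx => rw [LinearMap.map_smul, LinearMap.map_smul, hx]

theorem fpOn_biprod (M N : ModEt X) {O : Set (Points X)} (hM : FPOn M O) (hN : FPOn N O) : FPOn (M ⊞ N) O := by
  intro E hE
  haveI := hM E hE
  haveI := hN E hE
  have hb : Function.Bijective ((ap (biprod.fst : M ⊞ N ⟶ M) E).prod (ap (biprod.snd : M ⊞ N ⟶ N) E)) := by
    refine ⟨fun w w' e => ext_biprod_section w w' (congrArg Prod.fst e) (congrArg Prod.snd e), fun z => ?_⟩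
    refine ⟨ap biprod.inl E z.1 + ap biprod.inr E z.2, Prod.ext ?_ ?_⟩
    · show ap biprod.fst E (_ + _) = _
      rw [map_add, ← ap_comp_apply, ← ap_comp_apply, biprod.inl_fst, biprod.inr_fst]
      exact add_zero z.1
    · show ap biprod.snd E (_ + _) = _
      rw [map_add, ← ap_comp_apply, ← ap_comp_apply, biprod.inl_snd, biprod.inr_snd]
      exact zero_add z.2
  exact Module.FinitePresentation.of_equiv (LinearEquiv.ofBijective _ hb).symm

variable [QuasiSeparatedSpace ↥S]

/-- A quasi-coherent module receives a map from one with finitely presented sections hitting finitely many sections. -/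
theorem exists_fpOn_hitting (X : Space S) (hqc : IsQuasiCompactSp X.obj) (hqs : IsQuasiSeparatedSp X.obj)
    (M : ModEt X.obj) [M.IsQuasicoherent] {ι : Type} [Finite ι] (E₀ : ι → EtOver X.obj)
    (hE₀ : ∀ i, IsAffine (E₀ i).obj.left.left) (x : ∀ i, Msec M (E₀ i)) :
    ∃ (G : ModEt X.obj) (_ : G.IsQuasicoherent) (φ : G ⟶ M), FPOn G Set.univ ∧
      ∀ i, x i ∈ LinearMap.range (ap φ (E₀ i)) := by
  have h : Hits M (Set.univ : Set (Points X.obj)) :=
    AlgSpInd.open_induction X hqc hqs (fun O => Hits M O) ∅ isOpen_empty isCompact_empty (hits_empty M)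
      fun O O' hO hOc _ _ _ V _ f hf hu huniq hP => hits_step X hqc hqs M hO hOc V f hf hu huniq hP
  obtain ⟨G, _, φ, hG, hx⟩ := h E₀ hE₀ x
  refine ⟨G, inferInstance, φ, hG, fun i => ?_⟩
  have := hx i (E₀ i) (in_univ (hE₀ i)) (𝟙 _)
  rwa [show rs M (𝟙 (E₀ i)) (x i) = x i from QCart.sres_id _ _] at this

set_option maxHeartbeats 1000000 in
set_option synthInstance.maxHeartbeats 400000 in
/-- Sections in the kernel can be killed by a quotient of finite presentation. -/
theorem exists_kill (X : Space S) (hqc : IsQuasiCompactSp X.obj) (hqs : IsQuasiSeparatedSp X.obj)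
    {G M : ModEt X.obj} [G.IsQuasicoherent] [M.IsQuasicoherent] (hG : FPOn G Set.univ) (φ : G ⟶ M)
    {ι : Type} [Finite ι] (E₀ : ι → EtOver X.obj) (hE₀ : ∀ i, IsAffine (E₀ i).obj.left.left)
    (x : ∀ i, Msec G (E₀ i)) (hx : ∀ i, ap φ (E₀ i) (x i) = 0) :
    ∃ (G' : ModEt X.obj) (_ : G'.IsQuasicoherent) (π : G ⟶ G') (φ' : G' ⟶ M), FPOn G' Set.univ ∧ Epi π ∧
      π ≫ φ' = φ ∧ ∀ i, ap π (E₀ i) (x i) = 0 := by
  choose y hy using fun i => exists_kernel_lift φ (x i) (hx i)
  haveI := isQuasicoherent_kernel φ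
  obtain ⟨T, hT, hTy⟩ := exists_containing X hqc hqs (kernel φ) E₀ hE₀ y
  let K : ModEt X.obj := (subData hT).shf
  haveI : K.IsQuasicoherent := isQuasicoherent_subData hT
  haveI : K.IsFiniteType := isFiniteType_subData hT
  haveI : Mono ((subData hT).ι : K ⟶ kernel φ) := inferInstanceAs (Mono (subData hT).ι)
  let κι : K ⟶ G := ((subData hT).ι : K ⟶ kernel φ) ≫ kernel.ι φ
  haveI : Mono κι := mono_comp _ _
  refine ⟨cokernel κι, isQuasicoherent_cokernel κι, cokernel.π κι, cokernel.desc κι φ (by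
    show (((subData hT).ι : K ⟶ kernel φ) ≫ kernel.ι φ) ≫ φ = 0
    rw [Category.assoc, kernel.condition, comp_zero]),
    fpOn_cokernel κι hG fun E hE => haveI := hE.1; finite_Msec K E, inferInstance, cokernel.π_desc _ _ _, fun i => ?_⟩
  obtain ⟨w, hw⟩ := (range_ι_subData hT (hE₀ i)).ge (hTy i)
  rw [← hy i, ← hw]
  exact QCart.app_g_f (R := OEt X.obj) (ShortComplex.mk κι (cokernel.π κι) (cokernel.condition κι)) w

set_option maxHeartbeats 1600000 in
set_option synthInstance.maxHeartbeats 400000 in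
theorem exists_isColimit_fp (X : Space S) (hqc : IsQuasiCompactSp X.obj) (hqs : IsQuasiSeparatedSp X.obj)
    (M : ModEt X.obj) [M.IsQuasicoherent] :
    ∃ (J : Type (u + 1)) (_ : SmallCategory J) (_ : IsFiltered J) (D : J ⥤ ModEt X.obj)
      (ι : D ⟶ (Functor.const J).obj M),
      (∀ j, (D.obj j).IsFinitePresentation) ∧ Nonempty (IsColimit (Cocone.mk M ι)) := by
  classical
  obtain ⟨E₀, hE₀', hcov⟩ := exists_affine_cover (X := X.obj) hqc
  have hE₀ : IsAffine E₀.obj.left.left := hE₀'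
  let P : ModEt X.obj → Prop := fun G => G.IsQuasicoherent ∧ FPOn G Set.univ
  have hfin : ∀ {G}, P G → Module.Finite (A E₀) (Msec G E₀) := fun {G} h =>
    haveI := h.2 E₀ (in_univ hE₀); inferInstance
  obtain ⟨Code, code, hcode⟩ := exists_code (X := X.obj) hE₀ hcov
  let K := {c : Code // ∃ (G : ModEt X.obj) (h : P G), code G h.1 (hfin h) = c}
  let rep : K → ModEt X.obj := fun c => c.2.choose
  have hrep : ∀ c, P (rep c) := fun c => c.2.choose_spec.choose
  let J : Type (u + 1) := Σ c : K, (rep c ⟶ M)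
  let obj : J → Over M := fun j => Over.mk j.2
  letI cJ : SmallCategory J := (inferInstance : Category.{u + 1} (InducedCategory (Over M) obj))
  let D : J ⥤ ModEt X.obj := inducedFunctor obj ⋙ Over.forget M
  let ι : D ⟶ (Functor.const J).obj M :=
    { app := fun j => j.2
      naturality := fun j k f => (Over.w ((inducedFunctor obj).map f)).trans (Category.comp_id _).symm }
  have mkHom : ∀ {j k : J} (g : rep j.1 ⟶ rep k.1), g ≫ k.2 = j.2 → ∃ f : j ⟶ k, D.map f = g := fun {j k} g w =>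
    ⟨InducedCategory.homMk (Over.homMk g w : obj j ⟶ obj k), rfl⟩
  have get : ∀ (G : ModEt X.obj) (φ : G ⟶ M), P G → ∃ (j : J) (e : G ≅ rep j.1), e.hom ≫ j.2 = φ :=
    fun G φ h => by
      let c : K := ⟨code G h.1 (hfin h), G, h, rfl⟩
      obtain ⟨e⟩ := hcode G (rep c) h.1 (hfin h) (hrep c).1 (hfin (hrep c)) c.2.choose_spec.choose_spec.symm
      exact ⟨⟨c, e.inv ≫ φ⟩, e, e.hom_inv_id_assoc φ⟩
  haveI hne : Nonempty J := by
    obtain ⟨G, hG, φ, hG', -⟩ := exists_fpOn_hitting X hqc hqs M (fun i : PEmpty.{1} => i.elim)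
      (fun i => i.elim) (fun i => i.elim)
    obtain ⟨j, -⟩ := get G φ ⟨hG, hG'⟩
    exact ⟨j⟩
  haveI : IsFilteredOrEmpty J := by
    refine ⟨fun j k => ?_, fun j k f g => ?_⟩
    · haveI := (hrep j.1).1
      haveI := (hrep k.1).1
      obtain ⟨l, e, he⟩ := get (rep j.1 ⊞ rep k.1) (biprod.desc j.2 k.2)
        ⟨isQuasicoherent_biprod _ _, fpOn_biprod _ _ (hrep j.1).2 (hrep k.1).2⟩
      obtain ⟨f, -⟩ := mkHom (biprod.inl ≫ e.hom) (by rw [Category.assoc, he, biprod.inl_desc] :
        (biprod.inl ≫ e.hom) ≫ l.2 = j.2)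
      obtain ⟨g, -⟩ := mkHom (biprod.inr ≫ e.hom) (by rw [Category.assoc, he, biprod.inr_desc] :
        (biprod.inr ≫ e.hom) ≫ l.2 = k.2)
      exact ⟨l, f, g, trivial⟩
    · haveI := (hrep j.1).1
      haveI := (hrep k.1).1
      haveI := hfin (hrep j.1)
      obtain ⟨n, s, hs⟩ := Module.Finite.exists_fin (R := A E₀) (M := Msec (rep j.1) E₀)
      have w : D.map f ≫ k.2 = D.map g ≫ k.2 := (ι.naturality f).trans (ι.naturality g).symm
      obtain ⟨G', hG'q, π, φ', hG', -, hπ, hx⟩ := exists_kill X hqc hqs (hrep k.1).2 k.2 (fun _ : Fin n => E₀)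
        (fun _ => hE₀) (fun i => ap (D.map f) E₀ (s i) - ap (D.map g) E₀ (s i))
        (fun i => by rw [map_sub, sub_eq_zero]; exact congrArg (fun p => ap p E₀ (s i)) w)
      obtain ⟨l, e, he⟩ := get G' φ' ⟨hG'q, hG'⟩
      obtain ⟨h, hh⟩ := mkHom (π ≫ e.hom) (by rw [Category.assoc, he, hπ] : (π ≫ e.hom) ≫ l.2 = k.2)
      refine ⟨l, h, InducedCategory.hom_ext (Over.OverMorphism.ext ?_)⟩
      show D.map (f ≫ h) = D.map (g ≫ h)
      have e1 : D.map f ≫ π = D.map g ≫ π := hom_ext_of_cover hE₀ hcov (G := rep j.1) (H := G') _ _ fun m => by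
        refine LinearMap.congr_fun (LinearMap.ext_on_range hs fun i => ?_ :
          ap (D.map f ≫ π) E₀ = ap (D.map g ≫ π) E₀) m
        exact sub_eq_zero.1 ((map_sub (ap π E₀) _ _).symm.trans (hx i))
      rw [D.map_comp, D.map_comp, hh, ← Category.assoc, ← Category.assoc, e1]
  haveI : IsFiltered J := {}
  refine ⟨J, cJ, inferInstance, D, ι, fun j => ?_, ?_⟩
  · exact isFinitePresentation_of_cart (R := OEt X.obj) (haveI := (hrep j.1).1; isCart (rep j.1))
      (fun E hE => (hrep j.1).2 E (in_univ hE))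
  · refine nonempty_isColimit_of_elements D ι (fun E hE j a ha => ?_) fun E hE m => ?_
    · haveI := (hrep j.1).1
      obtain ⟨G', hG'q, π, φ', hG', -, hπ, hx⟩ := exists_kill X hqc hqs (hrep j.1).2 j.2 (fun _ : PUnit.{1} => E)
        (fun _ => hE) (fun _ => a) (fun _ => ha)
      obtain ⟨l, e, he⟩ := get G' φ' ⟨hG'q, hG'⟩
      obtain ⟨h, hh⟩ := mkHom (π ≫ e.hom) (by rw [Category.assoc, he, hπ] : (π ≫ e.hom) ≫ l.2 = j.2)
      refine ⟨l, h, ?_⟩
      rw [hh]
      exact (congrArg (ap e.hom E) (hx PUnit.unit)).trans (map_zero _)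
    · obtain ⟨G, hG, φ, hG', hx⟩ := exists_fpOn_hitting X hqc hqs M (fun _ : PUnit.{1} => E) (fun _ => hE) (fun _ => m)
      obtain ⟨j, e, he⟩ := get G φ ⟨hG, hG'⟩
      obtain ⟨z, hz⟩ := hx PUnit.unit
      exact ⟨j, ap e.hom E z, (congrArg (fun p => ap p E z) he).trans hz⟩

end Groth.Agent.SubExt
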