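import Groth.Agent.SubExt.FPColim

/-!
# A module of finite type as a colimit of modules of finite presentation along epimorphisms
-/

universe u

set_option autoImplicit false
set_option linter.style.haveILetI false
set_option backward.isDefEq.respectTransparency false
set_option backward.isDefEq.respectTransparency.types false

open CategoryTheory CategoryTheory.Limits AlgebraicGeometry Opposite AlgSp TensorProduct
open Groth.Agent.AlgSpQC10 Groth.Agent.AlgSpMor

namespace Groth.Agent.SubExt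

variable {S : Scheme.{u}} [QuasiSeparatedSpace ↥S]

set_option maxHeartbeats 1600000 in
set_option synthInstance.maxHeartbeats 400000 in
theorem exists_isColimit_fp_epi (X : Space S) (hqc : IsQuasiCompactSp X.obj) (hqs : IsQuasiSeparatedSp X.obj)
    (M : ModEt X.obj) [M.IsQuasicoherent] [M.IsFiniteType] :
    ∃ (J : Type (u + 1)) (_ : PartialOrder J) (_ : IsDirected J (· ≤ ·)) (_ : Nonempty J)
      (D : J ⥤ ModEt X.obj) (ι : D ⟶ (Functor.const J).obj M),
      Nonempty (IsColimit (Cocone.mk M ι)) ∧ (∀ j, (D.obj j).IsFinitePresentation) ∧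
        ∀ (j j' : J) (h : j ⟶ j'), Epi (D.map h) := by
  classical
  obtain ⟨E₀, hE₀', hcov⟩ := exists_affine_cover (X := X.obj) hqc
  haveI := hE₀'
  have hE₀ : IsAffine E₀.obj.left.left := hE₀'
  haveI := finite_Msec M E₀
  obtain ⟨r, s, hs⟩ := Module.Finite.exists_fin (R := A E₀) (M := Msec M E₀)
  obtain ⟨G, _, φ, hG, hφ⟩ := exists_fpOn_hitting X hqc hqs M (fun _ : Fin r => E₀) (fun _ => hE₀) s
  have hsurj : ∀ E : EtOver X.obj, IsAffine E.obj.left.left → Function.Surjective (ap φ E) := fun E hE m => by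
    refine mem_range_of_local φ hE m (sieve_to_cover_mem hcov E) fun {V} hV g hg => ?_
    obtain ⟨-, l, rfl⟩ := (Sieve.mem_ofArrows_iff _ _ _).1 hg
    refine (show pushSub M ⊤ (l ≫ EtOver.prodSnd E E₀) ≤ LinearMap.range (ap φ V) from Submodule.span_le.2 ?_)
      (top_le_pushSub M hE₀ hV (l ≫ EtOver.prodSnd E E₀) trivial)
    rintro _ ⟨y, -, rfl⟩
    have hy : y ∈ LinearMap.range (ap φ E₀) :=
      (show Submodule.span (A E₀) (Set.range s) ≤ _ from Submodule.span_le.2 fun _ ⟨i, hi⟩ => hi ▸ hφ i)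
        (hs.symm ▸ Submodule.mem_top)
    obtain ⟨w, rfl⟩ := hy
    exact ⟨rs G _ w, ap_rs _ _ _⟩
  haveI := isQuasicoherent_kernel φ
  let K : ModEt X.obj := kernel φ
  let J : Type (u + 1) := {N : Submodule (A E₀) (Msec K E₀) // ∃ T, IsFGSub K Set.univ T ∧ T E₀ = N}
  let T : J → ∀ E, Submodule (A E) (Msec K E) := fun j => j.2.choose
  have hT : ∀ j, IsFGSub K Set.univ (T j) := fun j => j.2.choose_spec.1
  have hTE : ∀ j : J, T j E₀ = j.1 := fun j => j.2.choose_spec.2
  have mk : ∀ {T'}, IsFGSub K Set.univ T' → ∃ j : J, j.1 = T' E₀ := fun {T'} h => ⟨⟨_, T', h, rfl⟩, rfl⟩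
  have le : ∀ (j : J) {T'}, IsFGSub K Set.univ T' → j.1 ≤ T' E₀ →
      ∀ E : EtOver X.obj, IsAffine E.obj.left.left → T j E ≤ T' E := fun j T' h hle E hE =>
    le_of_le_cover (hT j) h hE₀ hcov ((hTE j).trans_le hle) E hE
  let sub : J → ModEt X.obj := fun j => (subData (hT j)).shf
  let κ : ∀ j, sub j ⟶ G := fun j => ((subData (hT j)).ι : sub j ⟶ K) ≫ kernel.ι φ
  have hqsub : ∀ j, (sub j).IsQuasicoherent := fun j => isQuasicoherent_subData (hT j)
  have hfsub : ∀ j, (sub j).IsFiniteType := fun j => isFiniteType_subData (hT j)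
  have hmono : ∀ j, Mono (κ j) := fun j =>
    haveI : Mono ((subData (hT j)).ι : sub j ⟶ K) := inferInstanceAs (Mono (subData (hT j)).ι)
    mono_comp _ _
  have hkill : ∀ (j : J) (E : EtOver X.obj), IsAffine E.obj.left.left → ∀ w ∈ T j E,
      ap (cokernel.π (κ j)) E (ap (kernel.ι φ) E w) = 0 := fun j E hE w hw => by
    obtain ⟨v, rfl⟩ := (range_ι_subData (hT j) hE).ge hw
    exact QCart.app_g_f (R := OEt X.obj) (ShortComplex.mk (κ j) (cokernel.π (κ j)) (cokernel.condition (κ j))) v
  have hcomp : ∀ {j k : J}, j ≤ k → κ j ≫ cokernel.π (κ k) = 0 := fun {j k} hle => by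
    haveI := hqsub j
    refine hom_ext_of_cover hE₀ hcov (G := sub j) _ _ fun v => ?_
    refine (hkill k E₀ hE₀ (ap ((subData (hT j)).ι : sub j ⟶ K) E₀ v) ?_).trans rfl
    exact le j (hT k) ((show j.1 ≤ k.1 from hle).trans (hTE k).ge) E₀ hE₀ ((range_ι_subData (hT j) hE₀).le ⟨v, rfl⟩)
  let D : J ⥤ ModEt X.obj :=
    { obj := fun j => cokernel (κ j)
      map := fun {j k} h => cokernel.desc (κ j) (cokernel.π (κ k)) (hcomp (leOfHom h))
      map_id := fun j => coequalizer.hom_ext (by simp)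
      map_comp := fun {i j k} f g => coequalizer.hom_ext (by simp) }
  let ι : D ⟶ (Functor.const J).obj M :=
    { app := fun j => cokernel.desc (κ j) φ (by
        show (((subData (hT j)).ι : sub j ⟶ K) ≫ kernel.ι φ) ≫ φ = 0
        rw [Category.assoc, kernel.condition, comp_zero])
      naturality := fun j k h => coequalizer.hom_ext (by
        refine ((cokernel.π_desc_assoc _ _ (hcomp (leOfHom h)) _).trans ?_)
        exact (cokernel.π_desc _ _ _).trans ((congrArg (cokernel.π (κ j) ≫ ·) (Category.comp_id _)).trans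
          (cokernel.π_desc _ _ _)).symm) }
  haveI hne : Nonempty J := by
    obtain ⟨T', hT', -⟩ := exists_containing X hqc hqs K (fun i : PEmpty.{1} => i.elim)
      (fun i => i.elim) (fun i => i.elim)
    exact ⟨(mk hT').choose⟩
  have hext : ∀ (j : J) {ι : Type} [Finite ι] (E : ι → EtOver X.obj) (hE : ∀ i, IsAffine (E i).obj.left.left)
      (x : ∀ i, Msec K (E i)) (j' : J), ∃ k : J, j ≤ k ∧ j' ≤ k ∧ ∀ i, x i ∈ T k (E i) := by
    intro j ι _ E hE x j'
    obtain ⟨n, a, ha⟩ := Submodule.fg_iff_exists_fin_generating_family.1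
      (((hTE j) ▸ (hT j).fg (in_univ hE₀) : j.1.FG).sup ((hTE j') ▸ (hT j').fg (in_univ hE₀) : j'.1.FG))
    obtain ⟨T', hT', hx⟩ := exists_containing X hqc hqs K (Sum.elim E (fun _ : Fin n => E₀))
      (fun t => by cases t with | inl i => exact hE i | inr _ => exact hE₀)
      (fun t => match t with | .inl i => x i | .inr i => a i)
    obtain ⟨k, hk⟩ := mk hT'
    have h : j.1 ⊔ j'.1 ≤ k.1 := by
      rw [← ha, hk, Submodule.span_le]
      rintro _ ⟨i, rfl⟩
      exact hx (Sum.inr i)
    refine ⟨k, le_sup_left.trans h, le_sup_right.trans h, fun i => ?_⟩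
    refine le_of_le_cover hT' (hT k) hE₀ hcov ((hTE k).trans hk).ge (E i) (hE i) (hx (Sum.inl i))
  haveI hdir : IsDirected J (· ≤ ·) := ⟨fun j j' => by
    obtain ⟨k, h, h', -⟩ := hext j (fun i : PEmpty.{1} => i.elim) (fun i => i.elim) (fun i => i.elim) j'
    exact ⟨k, h, h'⟩⟩
  refine ⟨J, inferInstance, hdir, hne, D, ι, ?_, fun j => ?_, fun j k h => ?_⟩
  · refine nonempty_isColimit_of_elements D ι (fun E hE j a ha => ?_) fun E hE m => ?_
    · haveI := hmono j
      haveI := hqsub j
      obtain ⟨g, rfl⟩ := (cokernel_sections (κ j) E hE).1 a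
      obtain ⟨y, rfl⟩ := exists_kernel_lift φ g
        ((congrArg (fun p => ap p E g) (cokernel.π_desc (κ j) φ _)).symm.trans ha)
      obtain ⟨k, hjk, -, hy⟩ := hext j (fun _ : PUnit.{1} => E) (fun _ => hE) (fun _ => y) j
      refine ⟨k, homOfLE hjk, ?_⟩
      exact (congrArg (fun p => ap p E (ap (kernel.ι φ) E y)) (cokernel.π_desc (κ j) _ _)).trans
        (hkill k E hE y (hy PUnit.unit))
    · obtain ⟨g, hg⟩ := hsurj E hE m
      exact ⟨hne.some, ap (cokernel.π (κ hne.some)) E g,
        (congrArg (fun p => ap p E g) (cokernel.π_desc (κ hne.some) φ _)).trans hg⟩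
  · haveI := hmono j
    haveI := hqsub j
    haveI := hfsub j
    haveI := isQuasicoherent_cokernel (κ j)
    exact isFinitePresentation_of_cart (R := OEt X.obj) (isCart (cokernel (κ j))) fun E hE =>
      (fpOn_cokernel (κ j) hG fun E hE => haveI := hE.1; finite_Msec (sub j) E) E (in_univ hE)
  · exact epi_of_epi_fac (cokernel.π_desc (κ j) (cokernel.π (κ k)) (hcomp (leOfHom h)))

end Groth.Agent.SubExt
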