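import Groth.Agent.SubExt.Extend
import Groth.Agent.AlgSpDec.IdealFactor
import Groth.Agent.AlgSpDec.RedInduced

/-!
# Quasi-coherent ideals are unions of those of finite type; complements of quasi-compact open subspaces
-/

universe u

set_option autoImplicit false
set_option linter.style.haveILetI false
set_option backward.isDefEq.respectTransparency false
set_option backward.isDefEq.respectTransparency.types false

open CategoryTheory CategoryTheory.Limits AlgebraicGeometry Opposite AlgSp
open Groth.Agent.AlgSpQC10 Groth.Agent.AlgSpMor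

namespace Groth.Agent.SubExt

variable {S : Scheme.{u}} {X : Sp S}

theorem isQuasicoherent_unit : (unitModEt X).IsQuasicoherent :=
  (QCart.AffBasis.isQuasicoherent_iff_isCart (R := OEt X) (QCart.etBasis X)).2 (QCart.etBasis X).isCart_unit

/-- Forgetting the universe lift on functions. -/
noncomputable def down (E : EtOver X) : A E ≃+* Γ(E.obj.left.left, ⊤) :=
  ULift.ringEquiv.{u, u + 1} (R := Γ(E.obj.left.left, ⊤))

/-- A submodule of the structure sheaf on an object, as an ideal. -/
def asIdeal {E : EtOver X} (N : Submodule (A E) (Msec (unitModEt X) E)) : Ideal (A E) := N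

theorem down_map {E E' : EtOver X} (g : E' ⟶ E) (x : A E) :
    down E' (((OEt X).obj.map g.op).hom x) = g.hom.left.left.appTop.hom (down E x) := rfl

theorem pushSub_eq_map {E E' : EtOver X} (N : Submodule (A E) (Msec (unitModEt X) E)) (g : E' ⟶ E) :
    asIdeal (pushSub (unitModEt X) N g) = (asIdeal N).map ((OEt X).obj.map g.op).hom := rfl

/-- The submodules of the structure sheaf given by a family of ideals. -/
noncomputable def idealFam (I : IdealEt X) (E : EtOver X) : Submodule (A E) (Msec (unitModEt X) E) :=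
  open scoped Classical in
  if hE : IsAffine E.obj.left.left then ((I.ideal E hE).comap (down E).toRingHom : Ideal (A E)) else ⊤

theorem mem_idealFam (I : IdealEt X) {E : EtOver X} (hE : IsAffine E.obj.left.left) (x : Msec (unitModEt X) E) :
    x ∈ idealFam I E ↔ down E (show A E from x) ∈ I.ideal E hE := by
  rw [idealFam, dif_pos hE]
  exact Iff.rfl

theorem idealFam_res (I : IdealEt X) {E E' : EtOver X} (hE : IsAffine E.obj.left.left)
    (hE' : IsAffine E'.obj.left.left) (g : E' ⟶ E) (x : Msec (unitModEt X) E) (hx : x ∈ idealFam I E) :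
    rs (unitModEt X) g x ∈ idealFam I E' := by
  rw [mem_idealFam I hE']
  rw [mem_idealFam I hE] at hx
  exact I.map_le g hE hE' (Ideal.mem_map_of_mem _ hx)

theorem idealFam_gen {I : IdealEt X} (hI : I.IsQCoh) {E E' : EtOver X} (hE : IsAffine E.obj.left.left)
    (hE' : IsAffine E'.obj.left.left) (g : E' ⟶ E) :
    idealFam I E' ≤ pushSub (unitModEt X) (idealFam I E) g := fun x hx => by
  rw [mem_idealFam I hE'] at hx
  have h1 : idealFam I E = (I.ideal E hE).map (down E).symm.toRingHom := by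
    rw [idealFam, dif_pos hE]
    exact (Ideal.map_symm (down E)).symm
  have h2 : (show A E' from x) ∈ ((I.ideal E hE).map (down E).symm.toRingHom).map ((OEt X).obj.map g.op).hom := by
    have := Ideal.mem_map_of_mem (down E').symm.toRingHom (hI g hE hE' hx)
    rw [RingEquiv.toRingHom_eq_coe, RingHom.coe_coe, RingEquiv.symm_apply_apply, Ideal.map_map] at this
    rw [Ideal.map_map]
    exact this
  have h3 : asIdeal (pushSub (unitModEt X) (idealFam I E) g) =
      ((I.ideal E hE).map (down E).symm.toRingHom).map ((OEt X).obj.map g.op).hom := by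
    rw [pushSub_eq_map]
    exact congrArg (Ideal.map _) h1
  exact h3.ge h2

/-- The submodule data of a quasi-coherent ideal. -/
noncomputable def idealData {I : IdealEt X} (hI : I.IsQCoh) :
    QCart.SubData (R := OEt X) (unitModEt X) (QCart.etBasis X) where
  A E _ := idealFam I E
  res_mem _ _ hE hE' g x hx := idealFam_res I hE hE' g x hx
  local_mem E hE c x hx := by
    haveI := isQuasicoherent_unit (X := X)
    haveI : IsAffine E.obj.left.left := hE
    refine mem_of_local (idealFam I E) c.mem fun {V} hV g hg => idealFam_gen hI hE hV g ?_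
    obtain ⟨i, l, rfl⟩ := (Sieve.mem_ofArrows_iff _ _ _).1 hg
    rw [← rs_rs]
    exact idealFam_res I (c.aff_Z i) hV l _ (hx i)

/-- The module of a quasi-coherent ideal. -/
noncomputable def idealMod {I : IdealEt X} (hI : I.IsQCoh) : ModEt X := (idealData hI).shf

theorem isQuasicoherent_idealMod {I : IdealEt X} (hI : I.IsQCoh) : (idealMod hI).IsQuasicoherent := by
  haveI := isQuasicoherent_unit (X := X)
  refine (QCart.isQuasicoherent_iff X _).2 ((idealData hI).isCart (isCart (unitModEt X)) fun E E' hE hE' g z hz => ?_)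
  haveI : IsAffine E.obj.left.left := hE
  haveI : IsAffine E'.obj.left.left := hE'
  exact mem_range_of_mem_pushSub (idealFam I E) g z (idealFam_gen hI hE hE' g hz)

theorem range_idealι {I : IdealEt X} (hI : I.IsQCoh) {E : EtOver X} (hE : IsAffine E.obj.left.left) :
    LinearMap.range (ap (idealData hI).ι E) = idealFam I E :=
  SetLike.coe_injective ((LinearMap.coe_range _).trans ((idealData hI).range_ι (E := E) hE))

theorem IsFGSub.map {M N : ModEt X} {O : Set (Points X)} {T : ∀ E, Submodule (A E) (Msec M E)}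
    (hT : IsFGSub M O T) (φ : M ⟶ N) : IsFGSub N O fun E => (T E).map (ap φ E) := by
  refine ⟨fun hE hE' g x hx => ?_, fun {E E'} hE hE' g => ?_, fun hE => (hT.fg hE).map _⟩
  · obtain ⟨y, hy, rfl⟩ := hx
    exact ⟨rs M g y, hT.res hE hE' g y hy, ap_rs φ g y⟩
  · rintro _ ⟨y, hy, rfl⟩
    have h := hT.gen hE hE' g hy
    clear hy
    induction h using Submodule.span_induction with
    | mem x hx =>
      obtain ⟨z, hz, rfl⟩ := hx
      exact Submodule.subset_span ⟨ap φ E z, ⟨z, hz, rfl⟩, (ap_rs φ g z).symm⟩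
    | zero => rw [map_zero]; exact zero_mem _
    | add x y _ _ hx hy => rw [map_add]; exact add_mem hx hy
    | smul c x _ hx => rw [map_smul]; exact Submodule.smul_mem _ c hx

/-- The ideals of a family of submodules of the structure sheaf. -/
noncomputable def toIdealEt {T : ∀ E, Submodule (A E) (Msec (unitModEt X) E)}
    (hT : IsFGSub (unitModEt X) Set.univ T) : IdealEt X where
  ideal E _ := (asIdeal (T E)).map (down E).toRingHom
  map_le {E E'} g hE hE' := by
    rw [Ideal.map_map, show g.hom.left.left.appTop.hom.comp (down E).toRingHom =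
      (down E').toRingHom.comp ((OEt X).obj.map g.op).hom from RingHom.ext fun x => (down_map g x).symm,
      ← Ideal.map_map]
    refine Ideal.map_mono (Ideal.map_le_iff_le_comap.2 fun x hx => ?_)
    exact hT.res (in_univ hE) (in_univ hE') g x hx

theorem isQCoh_toIdealEt {T : ∀ E, Submodule (A E) (Msec (unitModEt X) E)}
    (hT : IsFGSub (unitModEt X) Set.univ T) : (toIdealEt hT).IsQCoh := fun E E' g hE hE' => by
  show (asIdeal (T E')).map (down E').toRingHom ≤ ((asIdeal (T E)).map (down E).toRingHom).map g.hom.left.left.appTop.hom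
  rw [Ideal.map_map, show g.hom.left.left.appTop.hom.comp (down E).toRingHom =
    (down E').toRingHom.comp ((OEt X).obj.map g.op).hom from RingHom.ext fun x => (down_map g x).symm,
    ← Ideal.map_map]
  exact Ideal.map_mono ((hT.gen (in_univ hE) (in_univ hE') g).trans (pushSub_eq_map (T E) g).le)

theorem fg_toIdealEt {T : ∀ E, Submodule (A E) (Msec (unitModEt X) E)}
    (hT : IsFGSub (unitModEt X) Set.univ T) (E : EtOver X) (hE : IsAffine E.obj.left.left) :
    ((toIdealEt hT).ideal E hE).FG :=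
  Ideal.FG.map (show (asIdeal (T E)).FG from hT.fg (in_univ hE)) _

/-- Finitely many sections of a quasi-coherent ideal lie in a quasi-coherent ideal of finite type inside it. -/
theorem exists_fg_ideal_le [QuasiSeparatedSpace ↥S] (hA : IsAlgSpace X) (hqc : IsQuasiCompactSp X)
    (hqs : IsQuasiSeparatedSp X) {I : IdealEt X} (hI : I.IsQCoh) (E₀ : EtOver X)
    (hE₀ : IsAffine E₀.obj.left.left) (s : Finset Γ(E₀.obj.left.left, ⊤)) (hs : ∀ f ∈ s, f ∈ I.ideal E₀ hE₀) :
    ∃ I' : IdealEt X, I'.IsQCoh ∧ (∀ E (hE : IsAffine E.obj.left.left), (I'.ideal E hE).FG) ∧ I' ≤ I ∧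
      ∀ f ∈ s, f ∈ I'.ideal E₀ hE₀ := by
  classical
  haveI := isQuasicoherent_idealMod hI
  let ι : idealMod hI ⟶ unitModEt X := (idealData hI).ι
  have hmem : ∀ f : ↥s, ((down E₀).symm f.1 : Msec (unitModEt X) E₀) ∈ LinearMap.range (ap ι E₀) := fun f => by
    rw [range_idealι hI hE₀, mem_idealFam I hE₀]
    simpa using hs f.1 f.2
  choose y hy using hmem
  let e := s.equivFin
  obtain ⟨T, hT, hx⟩ := exists_containing ⟨X, hA⟩ hqc hqs (idealMod hI) (fun _ : Fin s.card => E₀) (fun _ => hE₀)
    fun i => y (e.symm i)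
  refine ⟨toIdealEt (hT.map ι), isQCoh_toIdealEt _, fg_toIdealEt _, fun E hE => ?_, fun f hf => ?_⟩
  · show (asIdeal ((T E).map (ap ι E))).map (down E).toRingHom ≤ _
    refine Ideal.map_le_iff_le_comap.2 fun x hx => ?_
    obtain ⟨z, -, rfl⟩ := hx
    exact (mem_idealFam I hE _).1 ((range_idealι hI hE).le ⟨z, rfl⟩)
  · have h := Ideal.mem_map_of_mem (down E₀).toRingHom
      (show ((down E₀).symm f) ∈ asIdeal ((T E₀).map (ap ι E₀)) from
        ⟨y ⟨f, hf⟩, by simpa using hx (e ⟨f, hf⟩), hy ⟨f, hf⟩⟩)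
    rwa [RingEquiv.toRingHom_eq_coe, RingHom.coe_coe, RingEquiv.apply_symm_apply] at h

theorem mem_range_iff_zeroLocus {Z : Sp S} {i : Z ⟶ X} {I : IdealEt X} (hi : IsCutOutBy I i) (E : EtOver X)
    [hE : IsAffine E.obj.left.left] (e : ↥E.obj.left.left) :
    Points.ofPt E.obj.hom e ∈ Set.range (Points.map i) ↔
      e ∈ E.obj.left.left.zeroLocus (U := ⊤) (I.ideal E hE : Set Γ(E.obj.left.left, ⊤)) := by
  obtain ⟨hi, rfl⟩ := hi
  have sq := hi.rep.isPullback E.obj.hom
  haveI : IsClosedImmersion (EtOver.bcπ hi.1 E).left := hi.property_snd _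
  have h1 : Points.ofPt E.obj.hom e ∈ Set.range (Points.map i) ↔ e ∈ Set.range (EtOver.bcπ hi.1 E).left := by
    constructor
    · rintro ⟨z, hz⟩
      obtain ⟨w, -, hw⟩ := AlgSpLib.exists_point_of_isPullback sq (x := z) (y := Points.ofScheme E.obj.left e)
        (hz.trans (Points.ofPt_eq_map_ofScheme _ _))
      obtain ⟨w, rfl⟩ := (Points.schemeHomeo _).surjective w
      exact ⟨w, (Points.schemeHomeo E.obj.left).injective ((Points.map_yon_map_apply _ _).symm.trans hw)⟩
    · rintro ⟨w, rfl⟩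
      refine ⟨Points.map (hi.rep.fst E.obj.hom) (Points.ofScheme _ w), ?_⟩
      rw [← Points.map_comp, sq.w, Points.map_comp, AlgSpDec.map_map_ofScheme]
      rfl
  rw [h1, AlgSpDec.idealOfRep_eq hi E hE]
  have h2 : (Set.range (EtOver.bcπ hi.1 E).left) = ((EtOver.bcπ hi.1 E).left.ker.support : Set ↥E.obj.left.left) := by
    rw [Scheme.Hom.support_ker]
    exact (IsClosed.closure_eq (EtOver.bcπ hi.1 E).left.isClosedEmbedding.isClosed_range).symm
  rw [h2]
  exact ⟨fun h => ((Scheme.IdealSheafData.coe_support_inter _ ⟨⊤, isAffineOpen_top _⟩).le ⟨h, trivial⟩).1,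
    fun h => ((Scheme.IdealSheafData.coe_support_inter _ ⟨⊤, isAffineOpen_top _⟩).ge ⟨h, trivial⟩).1⟩

theorem isCompact_compl_zeroLocus {T : Scheme.{u}} [IsAffine T] {I : Ideal Γ(T, ⊤)} (hI : I.FG) :
    IsCompact (T.zeroLocus (U := ⊤) (I : Set Γ(T, ⊤)))ᶜ := by
  obtain ⟨s, rfl⟩ := hI
  have : (T.zeroLocus (U := ⊤) ((Ideal.span (s : Set Γ(T, ⊤)) : Ideal _) : Set Γ(T, ⊤)))ᶜ =
      ⋃ f ∈ s, (T.basicOpen f : Set ↥T) := by
    rw [Scheme.zeroLocus_span]
    ext x
    simp [Scheme.mem_zeroLocus_iff]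
  rw [this]
  exact s.finite_toSet.isCompact_biUnion fun f _ => ((isAffineOpen_top T).basicOpen f).isCompact

theorem exists_of_mem_etTop {E : EtOver X} {R : Sieve E} (h : R ∈ etTop X E) (x : E.obj.left.left) :
    ∃ (E' : EtOver X) (g : E' ⟶ E), R g ∧ x ∈ Set.range g.hom.left.left.base := by
  obtain ⟨P, hP, hle⟩ := (Precoverage.mem_toGrothendieck_iff_of_isStableUnderComposition (J := etPre X)).1 h
  obtain ⟨ι, Y, g, rfl⟩ := P.exists_eq_ofArrows
  obtain ⟨i, hi⟩ := (ofArrows_mem_etPre_iff Y g).1 hP x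
  exact ⟨_, g i, hle _ _ ⟨i⟩, hi⟩

/-- An open subspace is quasi-compact exactly when its complement is cut out by an ideal of finite type. -/
theorem isQuasiCompactSp_open_iff [QuasiSeparatedSpace ↥S] (X : Space S) (hqc : IsQuasiCompactSp X.obj)
    (hqs : IsQuasiSeparatedSp X.obj) (U : Space S) (j : U ⟶ X) (hj : RepWith @IsOpenImmersion j.hom) :
    IsQuasiCompactSp U.obj ↔
      ∃ (I : IdealEt X.obj), I.IsQCoh ∧
        (∀ (E : EtOver X.obj) (hE : IsAffine E.obj.left.left), (I.ideal E hE).FG) ∧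
        ∃ (Z : Space S) (i : Z ⟶ X), IsCutOutBy I i.hom ∧
          Set.range (Points.map i.hom) = (Set.range (Points.map j.hom))ᶜ := by
  classical
  obtain ⟨E₀, hE₀, hcov⟩ := exists_affine_cover hqc
  haveI := hE₀
  have hOo := AlgSpDec.isOpen_range_openImm X.property hj
  constructor
  · intro hU
    have hOc : IsCompact (Set.range (Points.map j.hom)) := AlgSpInd.isCompact_range_of_qc hU _
    obtain ⟨Z₀, i₀, hi₀, hr₀, -⟩ := AlgSpDec.exists_reduced_induced X.property hOo.isClosed_compl
    let J : IdealEt X.obj := idealOfRep hi₀.1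
    have hJ : J.IsQCoh := AlgSpDec.isQCoh_idealOfRep hi₀.1 (AlgSpPts.isQuasiCompactMor_of_repWith
      (AlgSpLib.repWith_mono (fun _ _ g (_ : IsClosedImmersion g) => (inferInstance : QuasiCompact g)) _ hi₀))
    let D : Set ↥E₀.obj.left.left := Points.ofPt E₀.obj.hom ⁻¹' Set.range (Points.map j.hom)
    have hD : IsCompact D := by
      obtain ⟨κ, _, Z, p, hZ, hc⟩ := exists_open_pieces X.property hqs hOo hOc E₀
      have hD' : D = ⋃ k, Set.range (p k).hom.left.left := by
        refine Set.Subset.antisymm (fun e he => ?_) (Set.iUnion_subset fun k => ?_)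
        · let V : E₀.obj.left.left.Opens := ⟨D, hOo.preimage (Points.continuous_ofPt _)⟩
          obtain ⟨Sv, hSv, hS⟩ := hc (AlgSpDec.etOpenι E₀ V) (by
            rintro _ ⟨v, rfl⟩
            rw [ofPt_hom (AlgSpDec.etOpenι E₀ V) v]
            exact (AlgSpDec.range_etOpenι E₀ V).le ⟨v, rfl⟩)
          obtain ⟨v, hv⟩ := (Set.ext_iff.1 (AlgSpDec.range_etOpenι E₀ V) e).2 he
          obtain ⟨W, g, hg, ⟨w, hw⟩⟩ := exists_of_mem_etTop hSv v
          obtain ⟨k, l, hl⟩ := hS g hg
          exact Set.mem_iUnion.2 ⟨k, l.hom.left.left w, by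
            rw [← hv, ← hw, ← Scheme.Hom.comp_apply, ← Scheme.Hom.comp_apply]
            exact congrArg (fun m : W ⟶ E₀ => m.hom.left.left w) hl⟩
        · rintro _ ⟨v, rfl⟩
          show Points.ofPt E₀.obj.hom ((p k).hom.left.left v) ∈ Set.range (Points.map j.hom)
          rw [← ofPt_hom]
          exact (hZ k).2 ⟨v, rfl⟩
      rw [hD']
      exact isCompact_iUnion fun k => haveI := (hZ k).1; isCompact_range (p k).hom.left.left.continuous
    have hzero : ∀ e, e ∈ E₀.obj.left.left.zeroLocus (U := ⊤) (J.ideal E₀ hE₀ : Set Γ(E₀.obj.left.left, ⊤)) ↔ e ∉ D :=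
      fun e => (mem_range_iff_zeroLocus (I := J) ⟨hi₀, rfl⟩ E₀ e).symm.trans (by rw [hr₀]; exact Iff.rfl)
    obtain ⟨s, hs⟩ := hD.elim_finite_subcover (fun f : J.ideal E₀ hE₀ => (E₀.obj.left.left.basicOpen f.1 : Set ↥E₀.obj.left.left))
      (fun f => (E₀.obj.left.left.basicOpen f.1).isOpen) fun e he => by
        by_contra h
        simp only [Set.mem_iUnion, not_exists] at h
        refine (hzero e).1 ((Scheme.mem_zeroLocus_iff _ _ _).2 fun f hf => ?_) he
        exact h ⟨f, hf⟩
    obtain ⟨I, hI, hIfg, hIJ, hsI⟩ := exists_fg_ideal_le X.property hqc hqs hJ E₀ hE₀ (s.image Subtype.val)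
      (by
        intro f hf
        obtain ⟨g, -, rfl⟩ := Finset.mem_image.1 hf
        exact g.2)
    obtain ⟨Z, i, hi⟩ := AlgSpDec.exists_isCutOutBy hI X.property
    refine ⟨I, hI, hIfg, Z, ObjectProperty.homMk i, hi, Set.ext fun x => ?_⟩
    obtain ⟨e, rfl⟩ := hcov x
    refine (mem_range_iff_zeroLocus hi E₀ e).trans ⟨fun h hx => ?_, fun hx => ?_⟩
    · obtain ⟨f, hf, hef⟩ := Set.mem_iUnion₂.1 (hs hx)
      exact (Scheme.mem_zeroLocus_iff _ _ _).1 h f.1 (hsI f.1 (Finset.mem_image_of_mem _ hf)) hef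
    · exact (Scheme.mem_zeroLocus_iff _ _ _).2 fun f hf =>
        (Scheme.mem_zeroLocus_iff _ _ _).1 ((hzero e).2 hx) f (hIJ E₀ hE₀ hf)
  · rintro ⟨I, -, hfg, Z, i, hi, hr⟩
    refine AlgSpInd.isQuasiCompactSp_of_isCompact_range U.property X.property hj ?_
    have : Set.range (Points.map j.hom) = Points.ofPt E₀.obj.hom ''
        (E₀.obj.left.left.zeroLocus (U := ⊤) (I.ideal E₀ hE₀ : Set Γ(E₀.obj.left.left, ⊤)))ᶜ := by
      ext x
      obtain ⟨e, rfl⟩ := hcov x
      constructor
      · intro hx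
        exact ⟨e, fun he => (hr.le ((mem_range_iff_zeroLocus hi E₀ e).2 he)) hx, rfl⟩
      · rintro ⟨e', he', heq⟩
        rw [← heq]
        by_contra hn
        exact he' ((mem_range_iff_zeroLocus hi E₀ e').1 (hr.ge hn))
    rw [this]
    exact (isCompact_compl_zeroLocus (hfg E₀ hE₀)).image (Points.continuous_ofPt _)

end Groth.Agent.SubExt
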