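import Groth.Agent.SubExt.Union
import Groth.Agent.QCart.EtPull
import Groth.Agent.QCart.EtRestrict
import Groth.Agent.AlgSpDec.EtPullRestrict

/-!
# Extending finite type submodules from a quasi-compact open subspace
-/

universe u

set_option autoImplicit false
set_option linter.style.haveILetI false
set_option backward.isDefEq.respectTransparency false
set_option backward.isDefEq.respectTransparency.types false

open CategoryTheory CategoryTheory.Limits AlgebraicGeometry Opposite AlgSp
open Groth.Agent.AlgSpQC10 Groth.Agent.AlgSpMor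

namespace Groth.Agent.SubExt

variable {S : Scheme.{u}} {X U : Sp S} {j : U ⟶ X}

theorem isEtaleMor_openImm (hj : RepWith @IsOpenImmersion j) : IsEtaleMor j :=
  AlgSpLib.isEtaleMor_of_repWith
    (AlgSpLib.repWith_mono (fun _ _ g (_ : IsOpenImmersion g) => inferInstanceAs (Etale g)) _ hj)

theorem exists_postcomp_iso (hU : IsAlgSpace U) (hX : IsAlgSpace X) (hj : RepWith @IsOpenImmersion j) (E : EtOver X)
    (hE : Set.range (Points.ofPt E.obj.hom) ⊆ Set.range (Points.map j)) :
    ∃ (A : EtOver U) (u : (EtOver.postcomp j (isEtaleMor_openImm hj)).obj A ⟶ E), IsIso u := by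
  obtain ⟨k, hk⟩ := AlgSpLib.exists_lift_openImmersion (IsAlgSpace.yon_obj E.obj.left) hU hX hj E.obj.hom
    (by rw [AlgSpInd.range_map_yon]; exact hE)
  haveI := AlgSpDec.mono_of_openImm hj
  have hke : RepWith @Etale k := LimPresLib.repWith_of_comp_mono j (hk.symm ▸ E.property)
  let A : EtOver U := EtOver.mk k hke
  let u : (EtOver.postcomp j (isEtaleMor_openImm hj)).obj A ⟶ E := EtOver.homMk (𝟙 _) (by
    show (yon S).map (𝟙 _) ≫ E.obj.hom = k ≫ j
    rw [CategoryTheory.Functor.map_id, Category.id_comp, hk])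
  let v : E ⟶ (EtOver.postcomp j (isEtaleMor_openImm hj)).obj A := EtOver.homMk (𝟙 _) (by
    show (yon S).map (𝟙 _) ≫ k ≫ j = E.obj.hom
    rw [CategoryTheory.Functor.map_id, Category.id_comp, hk])
  exact ⟨A, u, v, EtOver.hom_ext _ _ (Category.id_comp _), EtOver.hom_ext _ _ (Category.id_comp _)⟩

theorem exists_map_eq (hj : RepWith @IsOpenImmersion j) {A A' : EtOver U}
    (b : (EtOver.postcomp j (isEtaleMor_openImm hj)).obj A' ⟶ (EtOver.postcomp j (isEtaleMor_openImm hj)).obj A) :
    ∃ a : A' ⟶ A, (EtOver.postcomp j (isEtaleMor_openImm hj)).map a = b := by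
  haveI := AlgSpDec.mono_of_openImm hj
  refine ⟨EtOver.homMk b.hom.left ((cancel_mono j).1 ((Category.assoc _ _ _).trans (EtOver.w b))), EtOver.hom_ext _ _ rfl⟩

variable (hj : RepWith @IsOpenImmersion j) (F : ModEt X)

/-- Restriction of modules to an open subspace. -/
noncomputable def res : ModEt X ⥤ ModEt U :=
  haveI := AlgSpDec.PostcompSite.isContinuous j (isEtaleMor_openImm hj)
  SheafOfModules.pushforward.{u + 1} (AlgSpDec.EtPullRestrict.φ (isEtaleMor_openImm hj))

/-- Sections of the restriction as sections downstairs. -/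
def toDown (A : EtOver U) (m : Msec ((res hj).obj F) A) :
    Msec F ((EtOver.postcomp j (isEtaleMor_openImm hj)).obj A) := m

variable {G : ModEt U} (g : G ⟶ (res hj).obj F)

/-- The submodules over the open subspace given by a submodule of the restriction. -/
noncomputable def openSub (E : EtOver X) : Submodule (A E) (Msec F E) where
  carrier := {m | ∀ (A : EtOver U), IsAffine A.obj.left.left →
    ∀ b : (EtOver.postcomp j (isEtaleMor_openImm hj)).obj A ⟶ E, ∃ y : Msec G A, toDown hj F A (ap g A y) = rs F b m}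
  add_mem' := fun {x x'} hx hx' A hA b => by
    obtain ⟨y, hy⟩ := hx A hA b
    obtain ⟨y', hy'⟩ := hx' A hA b
    exact ⟨y + y', by rw [map_add, map_add, ← hy, ← hy']; rfl⟩
  zero_mem' := fun A hA b => ⟨0, by rw [map_zero, map_zero]; rfl⟩
  smul_mem' := fun c x hx A hA b => by
    obtain ⟨y, hy⟩ := hx A hA b
    let a := ((OEt X).obj.map b.op).hom c
    refine ⟨(show AlgSpQC10.A A from a) • y, ?_⟩
    rw [show rs F b (c • x) = a • rs F b x from QCart.sres_smul (QCart.psh (R := OEt X) F) b c x, ← hy, map_smul]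
    exact QCart.restrictMod_smul (isEtaleMor_openImm hj) F A (show AlgSpQC10.A A from a) (ap g A y)

theorem toDown_res {A A' : EtOver U} (a : A' ⟶ A) (m : Msec ((res hj).obj F) A) :
    toDown hj F A' (rs ((res hj).obj F) a m) =
      rs F ((EtOver.postcomp j (isEtaleMor_openImm hj)).map a) (toDown hj F A m) := rfl

/-- Over the open subspace the submodules are the images. -/
theorem mem_openSub_iff (A : EtOver U) (hA : IsAffine A.obj.left.left)
    (m : Msec F ((EtOver.postcomp j (isEtaleMor_openImm hj)).obj A)) :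
    m ∈ openSub hj F g _ ↔ ∃ y : Msec G A, toDown hj F A (ap g A y) = m := by
  refine ⟨fun h => ?_, ?_⟩
  · obtain ⟨y, hy⟩ := h A hA (𝟙 _)
    exact ⟨y, hy.trans (QCart.sres_id _ m)⟩
  · rintro ⟨y, rfl⟩ A' hA' b
    obtain ⟨a, rfl⟩ := exists_map_eq hj b
    exact ⟨rs G a y, by rw [ap_rs, toDown_res]⟩

variable [G.IsQuasicoherent] [G.IsFiniteType]

set_option maxHeartbeats 1000000 in
theorem isFGSub_openSub (hU : IsAlgSpace U) (hX : IsAlgSpace X) [F.IsQuasicoherent] :
    IsFGSub F (Set.range (Points.map j)) (openSub hj F g) := by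
  let P := EtOver.postcomp j (isEtaleMor_openImm hj)
  have hiso : ∀ {E : EtOver X} (A : EtOver U) (u : P.obj A ⟶ E) [IsIso u], IsAffine A.obj.left.left →
      ∀ m : Msec F (P.obj A), m ∈ openSub hj F g (P.obj A) → rs F (inv u) m ∈ openSub hj F g E := by
    intro E A u _ hA m hm A' hA' b
    obtain ⟨y, hy⟩ := hm A' hA' (b ≫ inv u)
    exact ⟨y, hy.trans (rs_rs F (inv u) b m).symm⟩
  have haff : ∀ {E : EtOver X} (A : EtOver U) (u : P.obj A ⟶ E) [IsIso u], IsAffine E.obj.left.left →
      IsAffine A.obj.left.left := fun {E} A u _ hE => by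
    haveI : IsIso ((EtOver.toScheme X).map u) := inferInstance
    haveI : IsIso u.hom.left.left := ‹IsIso ((EtOver.toScheme X).map u)›
    haveI := hE
    exact IsAffine.of_isIso u.hom.left.left
  refine ⟨fun {E E'} _ _ f x hx A hA b => ?_, fun {E E'} hE hE' f m hm => ?_, fun {E} hE => ?_⟩
  · obtain ⟨y, hy⟩ := hx A hA (b ≫ f)
    exact ⟨y, by rw [rs_rs]; exact hy⟩
  · obtain ⟨A, u, hu⟩ := exists_postcomp_iso hU hX hj E hE.2
    obtain ⟨A', u', hu'⟩ := exists_postcomp_iso hU hX hj E' hE'.2
    obtain ⟨a, ha⟩ := exists_map_eq hj (u' ≫ f ≫ inv u)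
    obtain ⟨y, hy⟩ := hm A' (haff A' u' hE'.1) u'
    have hA := haff A u hE.1
    have hA' := haff A' u' hE'.1
    obtain ⟨z, hz⟩ := (isCart G hA hA' a).2 (QCart.toSec a (QCart.psh (R := OEt U) G) y)
    have key : ∀ z, rs F (inv u') (toDown hj F A' (ap g A' (show Msec G A' from QCart.bcMap a (QCart.psh (R := OEt U) G) z))) ∈
        pushSub F (openSub hj F g E) f := fun z => by
      induction z using TensorProduct.induction_on with
      | zero => rw [map_zero, map_zero]; exact (map_zero (rs F (inv u'))).symm ▸ zero_mem _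
      | add p q hp hq =>
        rw [map_add, map_add]
        exact (map_add (rs F (inv u')) _ _).symm ▸ add_mem hp hq
      | tmul c x =>
        rw [QCart.bcMap_tmul]
        have e1 : toDown hj F A' (ap g A' ((show AlgSpQC10.A A' from c) • rs G a x)) =
            (show AlgSpQC10.A (P.obj A') from c) • rs F (P.map a) (toDown hj F A (ap g A x)) := by
          rw [map_smul, ap_rs]
          exact QCart.restrictMod_smul (isEtaleMor_openImm hj) F A' (show AlgSpQC10.A A' from c) _
        refine (congrArg (rs F (inv u')) e1).symm ▸ ?_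
        rw [show rs F (inv u') ((show AlgSpQC10.A (P.obj A') from c) • rs F (P.map a) (toDown hj F A (ap g A x))) =
          ((OEt X).obj.map (inv u').op).hom (show AlgSpQC10.A (P.obj A') from c) •
            rs F (inv u') (rs F (P.map a) (toDown hj F A (ap g A x))) from
          QCart.sres_smul (QCart.psh (R := OEt X) F) (inv u') _ _]
        refine Submodule.smul_mem _ _ (Submodule.subset_span
          ⟨rs F (inv u) (toDown hj F A (ap g A x)), hiso A u hA _ ((mem_openSub_iff hj F g A hA _).2 ⟨x, rfl⟩), ?_⟩)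
        rw [rs_rs, rs_rs]
        congr 1
        rw [ha, IsIso.inv_hom_id_assoc]
    have h2 := key z
    rw [show (show Msec G A' from QCart.bcMap a (QCart.psh (R := OEt U) G) z) = y from hz, hy, rs_rs,
      IsIso.inv_hom_id, show rs F (𝟙 E') m = m from QCart.sres_id _ m] at h2
    exact h2
  · obtain ⟨A, u, hu⟩ := exists_postcomp_iso hU hX hj E hE.2
    have hA := haff A u hE.1
    haveI := hA
    obtain ⟨n, s, hs⟩ := (finite_Msec G A).exists_fin (R := AlgSpQC10.A A) (M := Msec G A)
    let t : Fin n → Msec F E := fun i => rs F (inv u) (toDown hj F A (ap g A (s i)))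
    suffices openSub hj F g E = Submodule.span _ (Set.range t) by
      rw [this]; exact Submodule.fg_span (Set.finite_range t)
    refine le_antisymm (fun m hm => ?_) (Submodule.span_le.2 ?_)
    · obtain ⟨y, hy⟩ := hm A hA u
      have : m = rs F (inv u) (toDown hj F A (ap g A y)) := by
        rw [hy, rs_rs, IsIso.inv_hom_id]; exact (QCart.sres_id _ m).symm
      rw [this]
      have hy' : y ∈ Submodule.span (AlgSpQC10.A A) (Set.range s) := hs ▸ Submodule.mem_top
      clear this hy
      induction hy' using Submodule.span_induction with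
      | mem x hx =>
        obtain ⟨i, rfl⟩ := hx
        exact Submodule.subset_span ⟨i, rfl⟩
      | zero => rw [map_zero]; exact (map_zero (rs F (inv u))).symm ▸ zero_mem _
      | add p q _ _ hp hq =>
        rw [map_add]
        exact (map_add (rs F (inv u)) _ _).symm ▸ add_mem hp hq
      | smul c x _ hx =>
        have e1 : toDown hj F A (ap g A (c • x)) = (show AlgSpQC10.A (P.obj A) from c) • toDown hj F A (ap g A x) := by
          rw [map_smul]
          exact QCart.restrictMod_smul (isEtaleMor_openImm hj) F A c (ap g A x)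
        refine (congrArg (rs F (inv u)) e1).symm ▸ ?_
        rw [show rs F (inv u) ((show AlgSpQC10.A (P.obj A) from c) • toDown hj F A (ap g A x)) =
          ((OEt X).obj.map (inv u).op).hom (show AlgSpQC10.A (P.obj A) from c) • rs F (inv u) (toDown hj F A (ap g A x)) from
          QCart.sres_smul (QCart.psh (R := OEt X) F) (inv u) _ _]
        exact Submodule.smul_mem _ _ hx
    · rintro _ ⟨i, rfl⟩
      exact hiso A u hA _ ((mem_openSub_iff hj F g A hA _).2 ⟨s i, rfl⟩)

set_option maxHeartbeats 1000000 in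
/-- A finite type submodule of the restriction to a quasi-compact open subspace extends. -/
theorem exists_extending [QuasiSeparatedSpace ↥S] (X : Space S) (hqc : IsQuasiCompactSp X.obj)
    (hqs : IsQuasiSeparatedSp X.obj) {U : Sp S} (hU : IsAlgSpace U) (hUqc : IsQuasiCompactSp U) {j : U ⟶ X.obj}
    (hj : RepWith @IsOpenImmersion j) [(SheafOfModules.pushforward.{u + 1} (bcRingHom hj.1)).IsRightAdjoint]
    (F : ModEt X.obj) [F.IsQuasicoherent] (G : ModEt U) (g : G ⟶ (pullModEt hj.1).obj F) [Mono g]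
    [G.IsQuasicoherent] [G.IsFiniteType] :
    ∃ (G' : ModEt X.obj) (g' : G' ⟶ F), Mono g' ∧ G'.IsQuasicoherent ∧ G'.IsFiniteType ∧
      ∃ e : (pullModEt hj.1).obj G' ≅ G, e.hom ≫ g = (pullModEt hj.1).map g' := by
  haveI := AlgSpDec.PostcompSite.isContinuous j (isEtaleMor_openImm hj)
  let ε : res hj ≅ pullModEt hj.1 :=
    (AlgSpDec.EtPullRestrict.modAdj hj.1 (isEtaleMor_openImm hj)).leftAdjointUniq (pullPushAdjModEt hj.1)
  let gR : G ⟶ (res hj).obj F := g ≫ ε.inv.app F
  obtain ⟨T, hT, hTW, -⟩ := exists_extension X hqc hqs F (AlgSpDec.isOpen_range_openImm X.property hj)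
    (AlgSpInd.isCompact_range_of_qc hUqc j) (isFGSub_openSub hj F gR hU X.property)
    (fun i : PEmpty.{1} => i.elim) (fun i => i.elim) (fun i => i.elim) (fun i => i.elim)
  let G' : ModEt X.obj := (subData hT).shf
  let g' : G' ⟶ F := (subData hT).ι
  haveI : Mono g' := inferInstanceAs (Mono (subData hT).ι)
  haveI : G'.IsQuasicoherent := isQuasicoherent_subData hT
  haveI := AlgSpDec.EtPullRestrict.preservesFiniteLimits_pullModEt hj.1 (isEtaleMor_openImm hj)
  haveI : Mono ((pullModEt hj.1).map g') := inferInstance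
  haveI : ((pullModEt hj.1).obj G').IsQuasicoherent := QCart.isQuasicoherent_pullModEt hj.1 X.property G'
  haveI : ((pullModEt hj.1).obj F).IsQuasicoherent := QCart.isQuasicoherent_pullModEt hj.1 X.property F
  obtain ⟨E₀, hE₀, hcov⟩ := exists_affine_cover hUqc
  haveI := hE₀
  have hE : In (Set.range (Points.map j)) ((EtOver.postcomp j (isEtaleMor_openImm hj)).obj E₀) := by
    refine ⟨hE₀, ?_⟩
    rintro _ ⟨v, rfl⟩
    exact ⟨Points.ofPt E₀.obj.hom v, Points.map_ofPt _ _ _⟩
  have hr : LinearMap.range (ap ((res hj).map g') E₀) = LinearMap.range (ap gR E₀) := by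
    refine le_antisymm ?_ ?_
    · rintro _ ⟨x, rfl⟩
      have h1 : toDown hj F E₀ (ap ((res hj).map g') E₀ x) ∈ T _ :=
        (range_ι_subData hT hE.1).le ⟨x, rfl⟩
      rw [hTW _ hE] at h1
      exact (mem_openSub_iff hj F gR E₀ hE₀ _).1 h1
    · rintro _ ⟨y, rfl⟩
      have h1 := (mem_openSub_iff hj F gR E₀ hE₀ _).2 ⟨y, rfl⟩
      rw [← hTW _ hE, ← range_ι_subData hT hE.1] at h1
      obtain ⟨x, hx⟩ := h1
      exact ⟨x, hx⟩
  have e1 : (pullModEt hj.1).map g' = ε.inv.app G' ≫ (res hj).map g' ≫ ε.hom.app F := by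
    rw [ε.hom.naturality g', Iso.inv_hom_id_app_assoc]
  have e2 : g = gR ≫ ε.hom.app F := by
    simp only [gR, Category.assoc, Iso.inv_hom_id_app, Category.comp_id]
  have h12 : LinearMap.range (ap ((pullModEt hj.1).map g') E₀) ≤ LinearMap.range (ap g E₀) := by
    rw [e1, e2]
    rintro _ ⟨x, rfl⟩
    obtain ⟨y, hy⟩ := hr.le ⟨ap (ε.inv.app G') E₀ x, rfl⟩
    exact ⟨y, congrArg (ap (ε.hom.app F) E₀) hy⟩
  have h21 : LinearMap.range (ap g E₀) ≤ LinearMap.range (ap ((pullModEt hj.1).map g') E₀) := by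
    rw [e1, e2]
    rintro _ ⟨y, rfl⟩
    obtain ⟨x, hx⟩ := hr.ge ⟨y, rfl⟩
    refine ⟨ap (ε.hom.app G') E₀ x, ?_⟩
    refine Eq.trans ?_ (congrArg (ap (ε.hom.app F) E₀) hx)
    exact congrArg (fun k : (res hj).obj G' ⟶ (pullModEt hj.1).obj F => ap k E₀ x)
      (Iso.hom_inv_id_app_assoc ε G' ((res hj).map g' ≫ ε.hom.app F))
  obtain ⟨k₁, hk₁⟩ := exists_le_of_range hcov hU _ g h12
  obtain ⟨k₂, hk₂⟩ := exists_le_of_range hcov hU g _ h21
  refine ⟨G', g', inferInstance, inferInstance, isFiniteType_subData hT, ⟨k₁, k₂, ?_, ?_⟩, hk₁⟩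
  · rw [← cancel_mono ((pullModEt hj.1).map g'), Category.assoc, hk₂, hk₁, Category.id_comp]
  · rw [← cancel_mono g, Category.assoc, hk₁, hk₂, Category.id_comp]

end Groth.Agent.SubExt
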