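import Groth.Agent.SubExt.Glue
import Groth.Agent.AlgSpQC10.FP

/-!
# Extending finitely generated quasi-coherent submodules to the whole space
-/

universe u

set_option autoImplicit false
set_option linter.style.haveILetI false
set_option backward.isDefEq.respectTransparency false
set_option backward.isDefEq.respectTransparency.types false

open CategoryTheory CategoryTheory.Limits AlgebraicGeometry Opposite AlgSp TensorProduct
open Groth.Agent.AlgSpQC10 Groth.Agent.AlgSpMor

namespace Groth.Agent.SubExt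

variable {S : Scheme.{u}} [QuasiSeparatedSpace ↥S]

/-- Extension of finitely generated submodules over compact open sets to the space, containing given sections. -/
theorem exists_extension (X : Space S) (hqc : IsQuasiCompactSp X.obj) (hqs : IsQuasiSeparatedSp X.obj)
    (M : ModEt X.obj) [M.IsQuasicoherent] {W₀ : Set (Points X.obj)} (hW₀ : IsOpen W₀) (hW₀c : IsCompact W₀)
    {T₀ : ∀ E, Submodule (A E) (Msec M E)} (hT₀ : IsFGSub M W₀ T₀) {ι : Type} [Finite ι]
    (E₀ : ι → EtOver X.obj) (hE₀ : ∀ i, IsAffine (E₀ i).obj.left.left) (x : ∀ i, Msec M (E₀ i))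
    (hx : ∀ i W, In W₀ W → ∀ a : W ⟶ E₀ i, rs M a (x i) ∈ T₀ W) :
    ∃ T, IsFGSub M Set.univ T ∧ (∀ E, In W₀ E → T E = T₀ E) ∧
      ∀ i W, IsAffine W.obj.left.left → ∀ a : W ⟶ E₀ i, rs M a (x i) ∈ T W := by
  obtain ⟨T, hT, -, h1, h2⟩ := AlgSpInd.open_induction X hqc hqs (fun O => ∃ T, IsFGSub M O T ∧ W₀ ⊆ O ∧
      (∀ E, In W₀ E → T E = T₀ E) ∧ ∀ i W, In O W → ∀ a : W ⟶ E₀ i, rs M a (x i) ∈ T W)
    W₀ hW₀ hW₀c ⟨T₀, hT₀, le_rfl, fun _ _ => rfl, hx⟩ (by
      rintro O O' hO hOc _ _ hWO V _ f hf hu huniq ⟨T, hT, -, h1, h2⟩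
      haveI : IsAffine (EtOver.mk f hf).obj.left.left := ‹IsAffine V.left›
      obtain ⟨T', hT', h1', h2'⟩ := exists_step X.property hqs hO hOc (EtOver.mk f hf) hu huniq hT E₀ hE₀ x h2
      exact ⟨T', hT', hWO.trans (hu ▸ Set.subset_union_left), fun E hE => (h1' E (hE.mono hWO)).trans (h1 E hE), h2'⟩)
  exact ⟨T, hT, h1, fun i W hW a => h2 i W (in_univ hW) a⟩

omit [QuasiSeparatedSpace ↥S] in
theorem isFGSub_empty {X : Sp S} (M : ModEt X) : IsFGSub M ∅ fun _ => ⊥ :=
  ⟨fun _ _ g x hx => by rw [(Submodule.mem_bot _).1 hx, map_zero]; exact zero_mem _, fun _ _ _ => bot_le,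
    fun _ => Submodule.fg_bot⟩

omit [QuasiSeparatedSpace ↥S] in
theorem eq_zero_of_in_empty {X : Sp S} (M : ModEt X) [M.IsQuasicoherent] {W : EtOver X} (hW : In ∅ W)
    (m : Msec M W) : m = 0 := by
  haveI := hW.1
  refine (Submodule.mem_bot _).1 (mem_of_local (⊥ : Submodule (A W) (Msec M W))
    (Sv := Sieve.ofArrows (fun i : PEmpty.{1} => i.elim) (fun i => i.elim)) (AlgSp.ofArrows_mem_etTop _ _
      fun z => (hW.2 ⟨z, rfl⟩).elim) fun {V} hV g hg => ?_)
  obtain ⟨i, -⟩ := (Sieve.mem_ofArrows_iff _ _ _).1 hg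
  exact i.elim

/-- Finitely many sections lie in a finitely generated submodule on the whole space. -/
theorem exists_containing (X : Space S) (hqc : IsQuasiCompactSp X.obj) (hqs : IsQuasiSeparatedSp X.obj)
    (M : ModEt X.obj) [M.IsQuasicoherent] {ι : Type} [Finite ι] (E₀ : ι → EtOver X.obj)
    (hE₀ : ∀ i, IsAffine (E₀ i).obj.left.left) (x : ∀ i, Msec M (E₀ i)) :
    ∃ T, IsFGSub M Set.univ T ∧ ∀ i, x i ∈ T (E₀ i) := by
  obtain ⟨T, hT, -, h⟩ := exists_extension X hqc hqs M isOpen_empty isCompact_empty (isFGSub_empty M) E₀ hE₀ x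
    (fun i W hW a => by rw [eq_zero_of_in_empty M hW (rs M a (x i))]; exact zero_mem _)
  refine ⟨T, hT, fun i => ?_⟩
  have := h i _ (hE₀ i) (𝟙 _)
  rwa [show rs M (𝟙 (E₀ i)) (x i) = x i from QCart.sres_id _ _] at this

variable {X : Sp S} {M : ModEt X} [M.IsQuasicoherent] {T : ∀ E, Submodule (A E) (Msec M E)}

/-- The submodule data of finitely generated submodules on the whole space. -/
noncomputable def subData (hT : IsFGSub M Set.univ T) : QCart.SubData (R := OEt X) M (QCart.etBasis X) where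
  A E _ := T E
  res_mem _ _ hE hE' g x hx := hT.res (in_univ hE) (in_univ hE') g x hx
  local_mem E hE c x hx := hT.local_mem (in_univ hE) c.mem fun {V} hV g hg => by
    obtain ⟨i, l, rfl⟩ := (Sieve.mem_ofArrows_iff _ _ _).1 hg
    show rs M (l ≫ c.m i) x ∈ T V
    rw [← rs_rs]
    exact hT.res (in_univ (c.aff_Z i)) (in_univ hV) l _ (hx i)

omit [QuasiSeparatedSpace ↥S] in
theorem isCart_subData (hT : IsFGSub M Set.univ T) :
    (QCart.etBasis X).IsCart (QCart.psh (R := OEt X) (subData hT).shf) :=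
  (subData hT).isCart (isCart M) fun E E' hE hE' g z hz =>
    haveI : IsAffine E.obj.left.left := hE
    haveI : IsAffine E'.obj.left.left := hE'
    mem_range_of_mem_pushSub (T E) g z (hT.gen (in_univ hE) (in_univ hE') g hz)

omit [QuasiSeparatedSpace ↥S] in
theorem isQuasicoherent_subData (hT : IsFGSub M Set.univ T) :
    SheafOfModules.IsQuasicoherent (R := OEtRing X) (subData hT).shf :=
  (QCart.isQuasicoherent_iff X _).2 (isCart_subData hT)

omit [QuasiSeparatedSpace ↥S] in
/-- A cartesian module with finite sections on affine objects is of finite type. -/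
theorem isFiniteType_of_finite (N : ModEt X) [N.IsQuasicoherent]
    (h : ∀ E : EtOver X, IsAffine E.obj.left.left → Module.Finite (A E) (Msec N E)) : N.IsFiniteType := by
  classical
  have hg : ∀ E : { E : EtOver X // IsAffine E.obj.left.left }, ∃ σ : (N.over E.1).GeneratingSections, σ.IsFiniteType :=
    fun E => by
      obtain ⟨s, hs⟩ := (h E.1 E.2).fg_top
      exact ⟨spanGen (R := (OEt X).over E.1) (b := (QCart.etBasis X).over E.1) Over.mkIdTerminal
        (s : Set (Msec N E.1)) hs E.2 ((isCart N).over E.1), ⟨Finset.finite_toSet s⟩⟩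
  choose σ hσ using hg
  have hcov : (etTop X).CoversTop fun E : { E : EtOver X // IsAffine E.obj.left.left } => E.1 := fun Z => by
    refine (etTop X).superset_covering ?_ ((QCart.etBasis X).dense Z)
    rintro W f ⟨A, p, q, hA, rfl⟩
    exact (Sieve.mem_ofObjects_iff ..).2 ⟨⟨A, hA⟩, ⟨p⟩⟩
  let d : SheafOfModules.LocalGeneratorsData.{u + 1} N :=
    SheafOfModules.LocalGeneratorsData.mk (M := N) { E : EtOver X // IsAffine E.obj.left.left } (fun E => E.1) hcov σ
  haveI : d.IsFiniteType := by constructor; exact hσ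
  constructor
  exact ⟨d, inferInstance⟩

omit [QuasiSeparatedSpace ↥S] in
theorem range_ι_subData (hT : IsFGSub M Set.univ T) {E : EtOver X} (hE : IsAffine E.obj.left.left) :
    LinearMap.range (ap (subData hT).ι E) = T E :=
  SetLike.coe_injective ((LinearMap.coe_range _).trans ((subData hT).range_ι (E := E) hE))

omit [QuasiSeparatedSpace ↥S] in
theorem isFiniteType_subData (hT : IsFGSub M Set.univ T) :
    SheafOfModules.IsFiniteType (R := OEtRing X) (subData hT).shf := by
  haveI := isQuasicoherent_subData hT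
  refine isFiniteType_of_finite _ fun E hE => ?_
  haveI : Module.Finite (A E) (LinearMap.range (ap (subData hT).ι E)) := by
    rw [range_ι_subData hT hE]
    exact Module.Finite.iff_fg.2 (hT.fg (in_univ hE))
  exact Module.Finite.equiv (LinearEquiv.ofInjective (ap (subData hT).ι E)
    (QCart.injective_app_of_mono (R := OEt X) (subData hT).ι E)).symm

omit [QuasiSeparatedSpace ↥S] [M.IsQuasicoherent] in
/-- A quasi-coherent submodule of finite type gives finitely generated submodules of sections. -/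
theorem isFGSub_range {N : ModEt X} [N.IsQuasicoherent] [N.IsFiniteType] (ι : N ⟶ M) (O : Set (Points X)) :
    IsFGSub M O fun E => LinearMap.range (ap ι E) := by
  refine ⟨fun _ _ g x ⟨y, hy⟩ => ⟨rs N g y, ?_⟩, fun {E E'} hE hE' g => ?_, fun {E} hE => ?_⟩
  · rw [ap_rs, hy]
  · rintro _ ⟨y, rfl⟩
    haveI := hE.1
    haveI := hE'.1
    obtain ⟨z, hz⟩ := (isCart N hE.1 hE'.1 g).2 (QCart.toSec g (QCart.psh (R := OEt X) N) y)
    rw [show y = (show Msec N E' from QCart.bcMap g (QCart.psh (R := OEt X) N) z) from hz.symm]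
    clear hz
    induction z using TensorProduct.induction_on with
    | zero => rw [map_zero, map_zero]; exact zero_mem _
    | add a b ha hb => rw [map_add, map_add]; exact add_mem ha hb
    | tmul c x =>
      rw [QCart.bcMap_tmul]
      refine (LinearMap.map_smul (ap ι E') (show A E' from c) (rs N g x)).symm ▸ Submodule.smul_mem _ _ ?_
      exact Submodule.subset_span ⟨ap ι E x, ⟨x, rfl⟩, (ap_rs ι g x).symm⟩
  · haveI := hE.1
    haveI := finite_Msec N E
    exact Module.Finite.iff_fg.1 inferInstance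

end Groth.Agent.SubExt
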