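import Groth.Agent.SubExt.Union
import Mathlib.RingTheory.TensorProduct.Free

/-!
# Elementary facts on sections of quasi-coherent modules used to build modules of finite presentation
-/

universe u

set_option autoImplicit false
set_option linter.style.haveILetI false
set_option backward.isDefEq.respectTransparency false
set_option backward.isDefEq.respectTransparency.types false

open CategoryTheory CategoryTheory.Limits AlgebraicGeometry Opposite AlgSp TensorProduct
open Groth.Agent.AlgSpQC10 Groth.Agent.AlgSpMor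

namespace Groth.Agent.SubExt

/-- Finite generation descends along a finite jointly faithfully flat family. -/
theorem fg_of_family {A : Type u} [CommRing A] {ι : Type} [Finite ι] (B : ι → Type u) [∀ i, CommRing (B i)]
    [∀ i, Algebra A (B i)]
    (ff : ∀ (N : Type u) [AddCommGroup N] [Module A N] (x : N), (∀ i, (1 : B i) ⊗ₜ[A] x = 0) → x = 0)
    (N : Type u) [AddCommGroup N] [Module A N] (h : ∀ i, Module.Finite (B i) (B i ⊗[A] N)) : Module.Finite A N := by
  classical
  haveI := Fintype.ofFinite ι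
  have hgen : ∀ i, ∃ s : Finset N, ∀ z : B i ⊗[A] N,
      z ∈ LinearMap.range ((Submodule.span A (s : Set N)).subtype.lTensor (B i)) := by
    intro i
    obtain ⟨t, ht⟩ := (h i).fg_top
    choose m hm using fun z : B i ⊗[A] N => TensorProduct.exists_finset z
    let s : Finset N := t.biUnion fun z => (m z).image Prod.snd
    refine ⟨s, fun z => ?_⟩
    let L := ((Submodule.span A (s : Set N)).subtype).baseChange (B i)
    show z ∈ LinearMap.range L
    refine (show Submodule.span (B i) (t : Set (B i ⊗[A] N)) ≤ LinearMap.range L from Submodule.span_le.2 ?_)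
      (ht ▸ Submodule.mem_top)
    intro y hy
    rw [hm y]
    refine Submodule.sum_mem _ fun p hp => ⟨p.1 ⊗ₜ ⟨p.2, Submodule.subset_span ?_⟩, rfl⟩
    exact Finset.mem_biUnion.2 ⟨y, hy, Finset.mem_image.2 ⟨p, hp, rfl⟩⟩
  choose s hs using hgen
  let P := Submodule.span A ((Finset.univ.biUnion s : Finset N) : Set N)
  suffices P = ⊤ from ⟨⟨_, this⟩⟩
  refine eq_top_iff.2 fun x _ => ?_
  rw [← Submodule.Quotient.mk_eq_zero]
  refine ff _ _ fun i => ?_
  have hle : Submodule.span A (s i : Set N) ≤ P :=
    Submodule.span_mono (by intro y hy; exact Finset.mem_biUnion.2 ⟨i, Finset.mem_univ i, hy⟩)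
  obtain ⟨y, hy⟩ := hs i ((1 : B i) ⊗ₜ[A] x)
  have h2 := congrArg (P.mkQ.lTensor (B i)) hy
  rw [← LinearMap.comp_apply, ← LinearMap.lTensor_comp,
    show P.mkQ.comp (Submodule.span A (s i : Set N)).subtype = 0 from
      LinearMap.ext fun v => (Submodule.Quotient.mk_eq_zero P).2 (hle v.2),
    LinearMap.lTensor_zero, LinearMap.zero_apply, LinearMap.lTensor_tmul] at h2
  exact h2.symm

/-- Finite presentation descends along a finite jointly faithfully flat family. -/
theorem finitePresentation_of_family {A : Type u} [CommRing A] {ι : Type} [Finite ι] (B : ι → Type u)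
    [∀ i, CommRing (B i)] [∀ i, Algebra A (B i)] [∀ i, Module.Flat A (B i)]
    (ff : ∀ (N : Type u) [AddCommGroup N] [Module A N] (x : N), (∀ i, (1 : B i) ⊗ₜ[A] x = 0) → x = 0)
    (N : Type u) [AddCommGroup N] [Module A N] (h : ∀ i, Module.FinitePresentation (B i) (B i ⊗[A] N)) :
    Module.FinitePresentation A N := by
  haveI := fg_of_family B ff N fun i => inferInstance
  obtain ⟨n, s, hs⟩ := Module.Finite.exists_fin (R := A) (M := N)
  let π := Fintype.linearCombination A s
  have hπ : Function.Surjective π := fun x => by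
    obtain ⟨c, hc⟩ := (Submodule.mem_span_range_iff_exists_fun A).1 (hs.ge (trivial : x ∈ (⊤ : Submodule A N)))
    exact ⟨c, (Fintype.linearCombination_apply (R := A) s c).trans hc⟩
  haveI hK : Module.Finite A (LinearMap.ker π) := fg_of_family B ff _ fun i => by
    haveI := h i
    let πB := π.baseChange (B i)
    let ιB := (LinearMap.ker π).subtype.baseChange (B i)
    have hinj : Function.Injective ιB := Module.Flat.lTensor_preserves_injective_linearMap _ (Submodule.subtype_injective _)
    have hex : Function.Exact ιB πB := Module.Flat.lTensor_exact (B i) (LinearMap.exact_subtype_ker_map π)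
    have hfg : (LinearMap.range ιB).FG := by
      rw [← hex.linearMap_ker_eq]
      exact Module.FinitePresentation.fg_ker πB (LinearMap.lTensor_surjective (B i) hπ)
    haveI : Module.Finite (B i) (LinearMap.range ιB) := Module.Finite.iff_fg.2 hfg
    exact Module.Finite.equiv (LinearEquiv.ofInjective ιB hinj).symm
  exact Module.finitePresentation_of_surjective π hπ (Module.Finite.iff_fg.1 hK)

variable {S : Scheme.{u}} {X : Sp S}

theorem ap_comp_apply {L M N : ModEt X} (f : L ⟶ M) (g : M ⟶ N) {E : EtOver X} (x : Msec L E) :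
    ap (f ≫ g) E x = ap g E (ap f E x) := rfl

theorem ap_kernel_eq_zero {M N : ModEt X} (f : M ⟶ N) {E : EtOver X} (x : Msec (kernel f) E) :
    ap f E (ap (kernel.ι f) E x) = 0 :=
  QCart.app_g_f (R := OEt X) (ShortComplex.mk (kernel.ι f) f (kernel.condition f)) x

theorem exists_kernel_lift {M N : ModEt X} (f : M ⟶ N) {E : EtOver X} (x : Msec M E) (hx : ap f E x = 0) :
    ∃ y : Msec (kernel f) E, ap (kernel.ι f) E y = x :=
  haveI : Mono (ShortComplex.mk (kernel.ι f) f (kernel.condition f)).f := inferInstanceAs (Mono (kernel.ι f))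
  QCart.exists_app_eq_of_exact (R := OEt X) (ShortComplex.mk (kernel.ι f) f (kernel.condition f))
    (ShortComplex.exact_kernel f) x hx

theorem isQuasicoherent_kernel {M N : ModEt X} (f : M ⟶ N) [M.IsQuasicoherent] [N.IsQuasicoherent] :
    (kernel f).IsQuasicoherent :=
  (QCart.isQuasicoherent_iff X _).2 ((isCart M).kernel (R := OEt X) f (isCart N))

theorem isQuasicoherent_cokernel {M N : ModEt X} (f : M ⟶ N) [M.IsQuasicoherent] [N.IsQuasicoherent] :
    (cokernel f).IsQuasicoherent :=
  (QCart.isQuasicoherent_iff X _).2 ((isCart M).cokernel (R := OEt X) f (isCart N))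

theorem isQuasicoherent_isZero {M : ModEt X} (hM : IsZero M) : M.IsQuasicoherent := by
  haveI : (unitModEt X).IsQuasicoherent :=
    (QCart.AffBasis.isQuasicoherent_iff_isCart (R := OEt X) (QCart.etBasis X)).2 (QCart.etBasis X).isCart_unit
  exact (SheafOfModules.isQuasicoherent (R := OEtRing X)).prop_of_iso
    ((isZero_cokernel_of_epi (𝟙 (unitModEt X))).iso hM) (isQuasicoherent_cokernel (𝟙 (unitModEt X)))

/-- The sections of a cokernel of a monomorphism on an affine object. -/
theorem cokernel_sections {M N : ModEt X} (f : M ⟶ N) [Mono f] [M.IsQuasicoherent] (E : EtOver X)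
    (hE : IsAffine E.obj.left.left) :
    Function.Surjective (ap (cokernel.π f) E) ∧ LinearMap.ker (ap (cokernel.π f) E) = LinearMap.range (ap f E) := by
  have hS : (ShortComplex.mk f (cokernel.π f) (cokernel.condition f)).ShortExact :=
    { exact := ShortComplex.exact_cokernel f, mono_f := inferInstanceAs (Mono f), epi_g := inferInstanceAs (Epi (cokernel.π f)) }
  haveI : Mono (ShortComplex.mk f (cokernel.π f) (cokernel.condition f)).f := inferInstanceAs (Mono f)
  refine ⟨(isCart M).surjective_app (R := OEt X) hS (E := E) hE, le_antisymm (fun x hx => ?_) ?_⟩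
  · exact QCart.exists_app_eq_of_exact (R := OEt X) (ShortComplex.mk f (cokernel.π f) (cokernel.condition f))
      hS.exact x hx
  · rintro _ ⟨y, rfl⟩
    exact QCart.app_g_f (R := OEt X) (ShortComplex.mk f (cokernel.π f) (cokernel.condition f)) y

theorem ext_of_affine (T : ModEt X) {E : EtOver X} (a b : Msec T E)
    (h : ∀ (W : EtOver X) (_ : IsAffine W.obj.left.left) (f : W ⟶ E), rs T f a = rs T f b) : a = b := by
  refine QCart.sres_ext_of_mem T ((QCart.etBasis X).dense E) a b fun V g hg => ?_
  obtain ⟨W, p, q, hW, rfl⟩ := hg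
  exact (rs_rs T q p a).symm.trans ((congrArg (rs T p) (h W hW q)).trans (rs_rs T q p b))

theorem ext_of_sieve (T : ModEt X) {E : EtOver X} {Sv : Sieve E} (hS : Sv ∈ etTop X E) (a b : Msec T E)
    (h : ∀ {W : EtOver X} (_ : IsAffine W.obj.left.left) (f : W ⟶ E), Sv f → rs T f a = rs T f b) : a = b := by
  refine QCart.sres_ext_of_mem T hS a b fun V g hg => ext_of_affine T _ _ fun W hW k => ?_
  refine (rs_rs T g k a).trans (Eq.trans ?_ (rs_rs T g k b).symm)
  exact h hW (k ≫ g) (Sv.downward_closed hg k)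

set_option maxHeartbeats 800000 in
/-- A map bijective on the affine objects over an object is bijective on it. -/
theorem bijective_of_affine {M N : ModEt X} (φ : M ⟶ N) (E : EtOver X)
    (h : ∀ (W : EtOver X), IsAffine W.obj.left.left → (W ⟶ E) → Function.Bijective (ap φ W)) :
    Function.Bijective (ap φ E) := by
  refine ⟨fun a b e => ext_of_affine M a b fun W hW f => (h W hW f).1 (by rw [ap_rs, ap_rs, e]), fun t => ?_⟩
  let I := Σ W : EtOver X, {f : W ⟶ E // IsAffine W.obj.left.left}
  have hS : Sieve.ofArrows (fun i : I => i.1) (fun i => i.2.1) ∈ etTop X E := by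
    refine (etTop X).superset_covering ?_ ((QCart.etBasis X).dense E)
    rintro V g ⟨W, p, q, hW, rfl⟩
    exact (Sieve.mem_ofArrows_iff _ _ _).2 ⟨⟨W, q, hW⟩, p, rfl⟩
  choose s hs using fun i : I => (h i.1 i.2.2 i.2.1).2 (rs N i.2.1 t)
  obtain ⟨x, hx⟩ := QCart.exists_glue_sheaf (R := OEt X) M hS s fun V i i' a b e => by
    refine ext_of_affine M _ _ fun W hW k => (h W hW (k ≫ a ≫ i.2.1)).1 ?_
    show ap φ W (rs M k (rs M a (s i))) = ap φ W (rs M k (rs M b (s i')))
    rw [rs_rs, rs_rs, ap_rs, ap_rs, hs, hs, rs_rs, rs_rs, Category.assoc, Category.assoc, e]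
  refine ⟨x, ext_of_affine N _ _ fun W hW f => ?_⟩
  rw [← ap_rs]
  exact (congrArg (ap φ W) (hx (⟨W, ⟨f, hW⟩⟩ : I))).trans (hs (⟨W, ⟨f, hW⟩⟩ : I))

/-- Being in the image is local. -/
theorem mem_range_of_local {M N : ModEt X} [M.IsQuasicoherent] [N.IsQuasicoherent] (φ : M ⟶ N) {E : EtOver X}
    (hE : IsAffine E.obj.left.left) (x : Msec N E) {Sv : Sieve E} (hS : Sv ∈ etTop X E)
    (h : ∀ {V : EtOver X} (_ : IsAffine V.obj.left.left) (g : V ⟶ E), Sv g → rs N g x ∈ LinearMap.range (ap φ V)) :
    x ∈ LinearMap.range (ap φ E) := by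
  haveI := hE
  obtain ⟨c, hc⟩ := (QCart.etBasis X).cover (E := E) hE Sv hS
  refine QCart.mem_range_of_cover c (ap φ E) x fun i => ?_
  obtain ⟨y, hy⟩ := h (c.aff_Z i) (c.m i) (hc i)
  obtain ⟨z, hz⟩ := (isCart M hE (c.aff_Z i) (c.m i)).2 (QCart.toSec (c.m i) (QCart.psh (R := OEt X) M) y)
  refine ⟨z, (isCart N hE (c.aff_Z i) (c.m i)).1 ?_⟩
  rw [QCart.bcMap_tmul, one_smul]
  refine (QCart.bcMap_natural (QCart.phom (R := OEt X) φ) (c.m i) z).symm.trans ?_
  rw [hz]
  exact hy

theorem bijective_ap_iso {M N : ModEt X} (e : M ⟶ N) [IsIso e] (E : EtOver X) : Function.Bijective (ap e E) :=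
  Function.bijective_iff_has_inverse.2 ⟨ap (inv e) E,
    fun x => congrArg (fun k : M ⟶ M => ap k E x) (IsIso.hom_inv_id e),
    fun x => congrArg (fun k : N ⟶ N => ap k E x) (IsIso.inv_hom_id e)⟩

theorem isQuasicoherent_biprod (M N : ModEt X) [M.IsQuasicoherent] [N.IsQuasicoherent] :
    (M ⊞ N).IsQuasicoherent := by
  let σ := ShortComplex.mk (biprod.inl : M ⟶ M ⊞ N) (biprod.snd : M ⊞ N ⟶ N) biprod.inl_snd
  have hS : σ.ShortExact := (ShortComplex.Splitting.ofHasBinaryBiproduct M N).shortExact
  exact (QCart.isQuasicoherent_iff X _).2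
    (QCart.AffBasis.IsCart.extension (R := OEt X) (S := σ) hS (isCart M) (isCart N))

theorem ap_add {M N : ModEt X} (u v : M ⟶ N) {E : EtOver X} (x : Msec M E) :
    ap (u + v) E x = ap u E x + ap v E x :=
  by
    show ((u + v).val.app (op E)).hom x = (u.val.app (op E)).hom x + (v.val.app (op E)).hom x
    rw [SheafOfModules.add_val, PresheafOfModules.add_app]
    rfl

section Fibre

variable {M N P : ModEt X} (f : M ⟶ P) (g : N ⟶ P)

/-- The fibre product of two maps of modules. -/
noncomputable def fib : ModEt X := kernel (biprod.desc f (-g))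

/-- The first projection. -/
noncomputable def fibFst : fib f g ⟶ M := kernel.ι (biprod.desc f (-g)) ≫ biprod.fst

/-- The second projection. -/
noncomputable def fibSnd : fib f g ⟶ N := kernel.ι (biprod.desc f (-g)) ≫ biprod.snd

set_option maxHeartbeats 1000000 in
theorem fib_w : fibFst f g ≫ f = fibSnd f g ≫ g := by
  have h : kernel.ι (biprod.desc f (-g)) ≫ biprod.desc f (-g) = 0 := kernel.condition _
  have e : biprod.desc f (-g) = biprod.fst ≫ f - biprod.snd ≫ g :=
    biprod.hom_ext' _ _ (by simp) (by simp)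
  refine sub_eq_zero.1 ?_
  refine Eq.trans ?_ h
  rw [fibFst, fibSnd, Category.assoc, Category.assoc, ← Preadditive.comp_sub]
  exact congrArg (kernel.ι (biprod.desc f (-g)) ≫ ·) e.symm

theorem isQuasicoherent_fib [M.IsQuasicoherent] [N.IsQuasicoherent] [P.IsQuasicoherent] :
    (fib f g).IsQuasicoherent :=
  haveI := isQuasicoherent_biprod M N
  isQuasicoherent_kernel (biprod.desc f (-g))

variable {E : EtOver X}

theorem ext_biprod_section (w w' : Msec (M ⊞ N) E)
    (h₁ : ap (biprod.fst : M ⊞ N ⟶ M) E w = ap (biprod.fst : M ⊞ N ⟶ M) E w')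
    (h₂ : ap (biprod.snd : M ⊞ N ⟶ N) E w = ap (biprod.snd : M ⊞ N ⟶ N) E w') : w = w' := by
  have key : ∀ v : Msec (M ⊞ N) E,
      ap (𝟙 (M ⊞ N)) E v = ap (biprod.inl : M ⟶ M ⊞ N) E (ap (biprod.fst : M ⊞ N ⟶ M) E v) +
        ap (biprod.inr : N ⟶ M ⊞ N) E (ap (biprod.snd : M ⊞ N ⟶ N) E v) := fun v => by
    rw [← biprod.total, ap_add]
    rfl
  have hw := key w
  have hw' := key w'
  rw [h₁, h₂] at hw
  exact hw.trans hw'.symm

theorem ext_fib_section (z z' : Msec (fib f g) E) (h₁ : ap (fibFst f g) E z = ap (fibFst f g) E z')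
    (h₂ : ap (fibSnd f g) E z = ap (fibSnd f g) E z') : z = z' :=
  QCart.injective_app_of_mono (R := OEt X) (kernel.ι (biprod.desc f (-g))) E (ext_biprod_section _ _ h₁ h₂)

theorem exists_fib_section (x : Msec M E) (y : Msec N E) (h : ap f E x = ap g E y) :
    ∃ z : Msec (fib f g) E, ap (fibFst f g) E z = x ∧ ap (fibSnd f g) E z = y := by
  let w : Msec (M ⊞ N) E := ap biprod.inl E x + ap biprod.inr E y
  have hd : ap (biprod.desc f (-g)) E w = 0 := by
    show ap (biprod.desc f (-g)) E (ap biprod.inl E x + ap biprod.inr E y) = 0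
    rw [map_add, ← ap_comp_apply, ← ap_comp_apply, biprod.inl_desc, biprod.inr_desc, h]
    exact add_neg_cancel _
  obtain ⟨z, hz⟩ := exists_kernel_lift (biprod.desc f (-g)) w hd
  refine ⟨z, ?_, ?_⟩
  · show ap biprod.fst E (ap (kernel.ι (biprod.desc f (-g))) E z) = x
    rw [hz, map_add, ← ap_comp_apply, ← ap_comp_apply, biprod.inl_fst, biprod.inr_fst]
    exact add_zero x
  · show ap biprod.snd E (ap (kernel.ι (biprod.desc f (-g))) E z) = y
    rw [hz, map_add, ← ap_comp_apply, ← ap_comp_apply, biprod.inl_snd, biprod.inr_snd]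
    exact zero_add y

theorem bijective_fibFst (h : Function.Bijective (ap g E)) : Function.Bijective (ap (fibFst f g) E) := by
  refine ⟨fun z z' e => ext_fib_section f g z z' e (h.1 ?_), fun x => ?_⟩
  · rw [← ap_comp_apply, ← ap_comp_apply, ← fib_w, ap_comp_apply, ap_comp_apply, e]
  · obtain ⟨y, hy⟩ := h.2 (ap f E x)
    obtain ⟨z, hz, -⟩ := exists_fib_section f g x y hy.symm
    exact ⟨z, hz⟩

end Fibre

end Groth.Agent.SubExt
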