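import Groth.Agent.SubExt.FPFree
import Groth.Agent.AlgSpDM.HenzNbhd
import Groth.Agent.SubExt.Ideals

/-!
# Extending a module along an elementary etale neighbourhood
-/

universe u

set_option autoImplicit false
set_option linter.style.haveILetI false
set_option backward.isDefEq.respectTransparency false
set_option backward.isDefEq.respectTransparency.types false

open CategoryTheory CategoryTheory.Limits AlgebraicGeometry Opposite AlgSp
open Groth.Agent.AlgSpQC10 Groth.Agent.AlgSpMor Groth.Agent.AlgSpLib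

namespace Groth.Agent.SubExt

variable {S : Scheme.{u}} {X Z : Sp S} {f : Z ⟶ X}

/-- Etale maps to an object coming from `Z` come from `Z`. -/
theorem exists_lift_postcomp (hX : IsAlgSpace X) (hf : IsEtaleMor f) (B : EtOver Z) {E' : EtOver X}
    (g : E' ⟶ (EtOver.postcomp f hf).obj B) :
    ∃ (A' : EtOver Z) (k : A' ⟶ B) (u : (EtOver.postcomp f hf).obj A' ⟶ E'),
      u ≫ g = (EtOver.postcomp f hf).map k ∧ Set.range k.hom.left.left = Set.range g.hom.left.left := by
  haveI : Etale g.hom.left.left :=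
    AlgSpDM.etale_left_of_over hX g.hom.left (EtOver.w g) ((EtOver.postcomp f hf).obj B).property E'.property
  let A' : EtOver Z := EtOver.mk ((yon S).map g.hom.left ≫ B.obj.hom)
    (repWith_comp ((repWith_yon_map_iff _ _).2 (inferInstanceAs (Etale g.hom.left.left))) B.property)
  let k : A' ⟶ B := EtOver.homMk g.hom.left rfl
  let u : (EtOver.postcomp f hf).obj A' ⟶ E' := EtOver.homMk (𝟙 _) (by
    show (yon S).map (𝟙 _) ≫ E'.obj.hom = ((yon S).map g.hom.left ≫ B.obj.hom) ≫ f
    rw [CategoryTheory.Functor.map_id, Category.id_comp, ← EtOver.w g, Category.assoc]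
    rfl)
  exact ⟨A', k, u, EtOver.hom_ext _ _ (Category.id_comp _), rfl⟩

section Transfer

variable (hf : IsEtaleMor f)

theorem finitePresentation_resF (M : ModEt X) (B : EtOver Z)
    (h : Module.FinitePresentation (A ((EtOver.postcomp f hf).obj B)) (Msec M ((EtOver.postcomp f hf).obj B))) :
    Module.FinitePresentation (A B) (Msec ((resF hf).obj M) B) := by
  letI inst : Module (A ((EtOver.postcomp f hf).obj B)) (Msec ((resF hf).obj M) B) :=
    (inferInstance : Module (A B) (Msec ((resF hf).obj M) B))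
  let e : Msec M ((EtOver.postcomp f hf).obj B) ≃ₗ[A ((EtOver.postcomp f hf).obj B)] Msec ((resF hf).obj M) B :=
    { toFun := fun m => upS hf m
      invFun := fun m => dn hf m
      left_inv := fun _ => rfl
      right_inv := fun _ => rfl
      map_add' := fun _ _ => rfl
      map_smul' := fun c m => (QCart.restrictMod_smul hf M B (show A B from c) (upS hf m)).symm }
  haveI := h
  have h2 := Module.FinitePresentation.of_equiv e
  exact h2

theorem finitePresentation_of_resF (M : ModEt X) (B : EtOver Z)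
    (h : Module.FinitePresentation (A B) (Msec ((resF hf).obj M) B)) :
    Module.FinitePresentation (A ((EtOver.postcomp f hf).obj B)) (Msec M ((EtOver.postcomp f hf).obj B)) := by
  letI inst : Module (A B) (Msec M ((EtOver.postcomp f hf).obj B)) :=
    (inferInstance : Module (A ((EtOver.postcomp f hf).obj B)) (Msec M ((EtOver.postcomp f hf).obj B)))
  let e : Msec ((resF hf).obj M) B ≃ₗ[A B] Msec M ((EtOver.postcomp f hf).obj B) :=
    { toFun := fun m => dn hf m
      invFun := fun m => upS hf m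
      left_inv := fun _ => rfl
      right_inv := fun _ => rfl
      map_add' := fun _ _ => rfl
      map_smul' := fun c m => QCart.restrictMod_smul hf M B c m }
  haveI := h
  have h2 := Module.FinitePresentation.of_equiv e
  exact h2

end Transfer

variable (hrep : Representable f) (hf : IsEtaleMor f)

/-- The counit from the restriction of a direct image. -/
noncomputable def counitPR (N : ModEt Z) : (resF hf).obj ((pushModEt hrep).obj N) ⟶ N :=
  (AlgSpDec.EtPullRestrict.modAdj hrep hf).counit.app N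

set_option maxHeartbeats 800000 in
theorem counitPR_apply (N : ModEt Z) {B : EtOver Z} (m : Msec ((resF hf).obj ((pushModEt hrep).obj N)) B) :
    ap (counitPR hrep hf N) B m = rs N ((siteAdj hrep hf).unit.app B) (bd hrep (dn hf m)) := by
  rfl

theorem dn_inj {M : ModEt X} {B : EtOver Z} {m m' : Msec ((resF hf).obj M) B} (h : dn hf m = dn hf m') : m = m' :=
  h

theorem bd_inj {N : ModEt Z} {E : EtOver X} {m m' : Msec ((pushModEt hrep).obj N) E} (h : bd hrep m = bd hrep m') :
    m = m' :=
  h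

variable {G : ModEt X} {N : ModEt Z} (ψ : N ⟶ (resF hf).obj G)

set_option maxHeartbeats 800000 in
theorem unit_eq_push_iff {E : EtOver X} (g : Msec G E) (y : Msec ((pushModEt hrep).obj N) E) :
    ap (unitPR hrep hf G) E g = ap ((pushModEt hrep).map ψ) E y ↔
      rs G (co hrep hf E) g = dn hf (ap ψ ((EtOver.bc hrep).obj E) (bd hrep y)) := by
  constructor
  · intro h
    exact (unitPR_apply hrep hf G g).symm.trans
      ((congrArg (fun m => dn hf (bd hrep m)) h).trans (congrArg (dn hf) (bd_ap hrep ψ y)))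
  · intro h
    exact bd_inj hrep (dn_inj hf ((unitPR_apply hrep hf G g).trans (h.trans (congrArg (dn hf) (bd_ap hrep ψ y)).symm)))

theorem bijective_fst_of_over {O : Set (Points X)}
    (hψ : ∀ B, In (Points.map f ⁻¹' O) B → Function.Bijective (ap ψ B)) {E : EtOver X} (hE : In O E) :
    Function.Bijective (ap (fibFst (unitPR hrep hf G) ((pushModEt hrep).map ψ)) E) := by
  refine bijective_fibFst _ _ ?_
  have hb : Function.Bijective (ap ψ ((EtOver.bc hrep).obj E)) := bijective_of_affine ψ _ fun W hW k =>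
    hψ W ⟨hW, (range_subset_of_hom k).trans fun _ => by
      rintro ⟨v, rfl⟩
      show Points.map f (Points.ofPt _ v) ∈ O
      rw [Points.map_ofPt]
      exact hE.2 (range_subset_of_hom (co hrep hf E) ⟨v, rfl⟩)⟩
  exact hb

variable (hX : IsAlgSpace X) {T : EtOver Z} (hT : IsTerminal T) {O O' : Set (Points X)} (hO : IsOpen O)
  (hFO : Set.range (Points.ofPt ((EtOver.postcomp f hf).obj T).obj.hom) ⊆ O')
  (huniq : AlgSpInd.UniqLifts ((EtOver.postcomp f hf).obj T).obj.hom (O' \ O))

/-- The part of the chart times itself made of the diagonal and the points over `O`. -/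
noncomputable def chartSieve (O : Set (Points X)) : Sieve ((EtOver.bc hrep).obj ((EtOver.postcomp f hf).obj T)) where
  arrows := fun W h => h ≫ hT.from _ ≫ (siteAdj hrep hf).unit.app T = h ∨
    Set.range (Points.ofPt W.obj.hom) ⊆ Points.map f ⁻¹' O
  downward_closed := by
    rintro W W' h (hh | hh) g
    · exact Or.inl (by rw [Category.assoc, hh])
    · exact Or.inr ((range_subset_of_hom g).trans hh)

theorem unit_toT : (siteAdj hrep hf).unit.app T ≫ hT.from _ = 𝟙 T := hT.hom_ext _ _

theorem map_unit_co (B : EtOver Z) :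
    (EtOver.postcomp f hf).map ((siteAdj hrep hf).unit.app B) ≫ co hrep hf ((EtOver.postcomp f hf).obj B) =
      𝟙 ((EtOver.postcomp f hf).obj B) :=
  (siteAdj hrep hf).left_triangle_components B

include hX hO hFO huniq in
set_option maxHeartbeats 800000 in
theorem chartSieve_mem : chartSieve hrep hf hT O ∈ etTop Z _ := mem_etTop_of_range _ fun z => by
  obtain ⟨R, hR, hR'⟩ := sieve_eq_or_in hX hO ((EtOver.postcomp f hf).obj T) hFO huniq
    (co hrep hf ((EtOver.postcomp f hf).obj T)) ((EtOver.postcomp f hf).map (hT.from _))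
  obtain ⟨E', g, hg, hz⟩ := exists_of_mem_etTop hR z
  obtain ⟨A', k, v, hv, hrk⟩ := exists_lift_postcomp hX hf _ g
  refine ⟨A', k, hrk.ge hz, ?_⟩
  rcases hR' g hg with h1 | h1
  · refine Or.inl (((siteAdj hrep hf).homEquiv A' ((EtOver.postcomp f hf).obj T)).symm.injective ?_)
    rw [Adjunction.homEquiv_counit, Adjunction.homEquiv_counit]
    show (EtOver.postcomp f hf).map (k ≫ hT.from _ ≫ (siteAdj hrep hf).unit.app T) ≫ co hrep hf _ =
      (EtOver.postcomp f hf).map k ≫ co hrep hf _
    rw [Functor.map_comp, Functor.map_comp, Category.assoc, Category.assoc, map_unit_co, Category.comp_id, ← hv,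
      Category.assoc, Category.assoc, h1]
  · refine Or.inr ?_
    rintro _ ⟨w, rfl⟩
    show Points.map f (Points.ofPt _ w) ∈ O
    rw [Points.map_ofPt]
    exact h1 (range_subset_of_hom v ⟨w, rfl⟩)

variable (hψ : ∀ B, In (Points.map f ⁻¹' O) B → Function.Bijective (ap ψ B))

include hX hT hO hFO huniq hψ in
set_option maxHeartbeats 1600000 in
theorem exists_chart_glue (t : Msec N T) :
    ∃ y : Msec N ((EtOver.bc hrep).obj ((EtOver.postcomp f hf).obj T)),
      rs G (co hrep hf ((EtOver.postcomp f hf).obj T)) (dn hf (ap ψ T t)) = dn hf (ap ψ _ y) ∧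
      rs N ((siteAdj hrep hf).unit.app T) y = t := by
  classical
  let P := EtOver.postcomp f hf
  let B : EtOver Z := (EtOver.bc hrep).obj (P.obj T)
  let c : P.obj B ⟶ P.obj T := co hrep hf (P.obj T)
  let η : T ⟶ B := (siteAdj hrep hf).unit.app T
  let toT : B ⟶ T := hT.from B
  have hηT : η ≫ toT = 𝟙 T := hT.hom_ext _ _
  have hηc : P.map η ≫ c = 𝟙 (P.obj T) := map_unit_co hrep hf T
  have hSv := chartSieve_mem hrep hf hX hT hO hFO huniq
  let Sv := chartSieve hrep hf hT O
  have hη : ∀ {W : EtOver Z} (h : W ⟶ T), (h ≫ η) ≫ toT ≫ η = h ≫ η := fun h => by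
    rw [Category.assoc, ← Category.assoc η, hηT, Category.id_comp]
  let g : Msec G (P.obj T) := dn hf (ap ψ T t)
  let r : Msec ((resF hf).obj G) B := upS hf (rs G c g)
  let I := Σ W : EtOver Z, {h : W ⟶ B // IsAffine W.obj.left.left ∧ Sv h}
  have hI : Sieve.ofArrows (fun i : I => i.1) (fun i => i.2.1) ∈ etTop Z B := by
    refine (etTop Z).transitive hSv _ fun V h hh => (etTop Z).superset_covering ?_ ((QCart.etBasis Z).dense V)
    rintro W k ⟨W', p, q, hW', rfl⟩
    exact (Sieve.mem_ofArrows_iff _ _ _).2 ⟨⟨W', q ≫ h, hW', Sv.downward_closed hh q⟩, p, Category.assoc _ _ _⟩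
  have hex : ∀ i : I, ∃ s : Msec N i.1, ap ψ i.1 s = rs ((resF hf).obj G) i.2.1 r ∧
      (i.2.1 ≫ toT ≫ η = i.2.1 → s = rs N (i.2.1 ≫ toT) t) := fun i => by
    by_cases e : i.2.1 ≫ toT ≫ η = i.2.1
    · refine ⟨rs N (i.2.1 ≫ toT) t, dn_inj hf ?_, fun _ => rfl⟩
      have e1 : P.map (i.2.1 ≫ toT) = P.map i.2.1 ≫ c :=
        (by rw [← Category.assoc, P.map_comp, Category.assoc, hηc, Category.comp_id] :
          P.map (i.2.1 ≫ toT ≫ η) ≫ c = P.map (i.2.1 ≫ toT)).symm.trans
          (congrArg (fun m => P.map m ≫ c) e)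
      rw [ap_rs, dn_rs, dn_rs]
      show rs G (P.map (i.2.1 ≫ toT)) g = rs G (P.map i.2.1) (rs G c g)
      rw [rs_rs, e1]
    · obtain ⟨s, hs⟩ := (hψ i.1 ⟨i.2.2.1, i.2.2.2.resolve_left e⟩).2 (rs ((resF hf).obj G) i.2.1 r)
      exact ⟨s, hs, fun e' => absurd e' e⟩
  choose s hs hs' using hex
  obtain ⟨y, hy⟩ := QCart.exists_glue_sheaf (R := OEt Z) N hI s fun V i j a b e => by
    refine ext_of_affine N _ _ fun W hW k => ?_
    show rs N k (rs N a (s i)) = rs N k (rs N b (s j))
    rw [rs_rs, rs_rs]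
    have e' : (k ≫ a) ≫ i.2.1 = (k ≫ b) ≫ j.2.1 := by rw [Category.assoc, Category.assoc, e]
    by_cases h : i.2.1 ≫ toT ≫ η = i.2.1 ∧ j.2.1 ≫ toT ≫ η = j.2.1
    · rw [hs' i h.1, hs' j h.2, rs_rs, rs_rs, ← Category.assoc _ i.2.1, e', Category.assoc _ j.2.1]
    · have hW' : In (Points.map f ⁻¹' O) W := by
        refine ⟨hW, ?_⟩
        rcases not_and_or.1 h with h | h
        · exact (range_subset_of_hom (k ≫ a)).trans (i.2.2.2.resolve_left h)
        · exact (range_subset_of_hom (k ≫ b)).trans (j.2.2.2.resolve_left h)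
      refine (hψ W hW').1 ?_
      rw [ap_rs, ap_rs, hs, hs, rs_rs, rs_rs, e']
  have hyr : ap ψ B y = r := ext_of_sieve _ hI _ _ fun {W} hW h hh => by
    obtain ⟨i, l, rfl⟩ := (Sieve.mem_ofArrows_iff _ _ _).1 hh
    rw [← rs_rs, ← rs_rs, ← ap_rs ψ i.2.1]
    exact congrArg (rs ((resF hf).obj G) l) ((congrArg (ap ψ i.1) (hy i)).trans (hs i))
  refine ⟨y, (congrArg (dn hf) hyr).symm, ext_of_affine N _ _ fun W hW k => ?_⟩
  rw [rs_rs]
  let i : I := ⟨W, k ≫ η, hW, Or.inl (hη k)⟩
  refine (hy i).trans ((hs' i (hη k)).trans ?_)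
  show rs N ((k ≫ η) ≫ toT) t = rs N k t
  exact congrArg (fun m => rs N m t) (((Category.assoc k η toT).trans (congrArg (k ≫ ·) hηT)).trans (Category.comp_id k))

include hX hT hO hFO huniq hψ in
set_option maxHeartbeats 1600000 in
theorem ext_chart (g g' : Msec G ((EtOver.postcomp f hf).obj T))
    (y y' : Msec N ((EtOver.bc hrep).obj ((EtOver.postcomp f hf).obj T)))
    (h : rs G (co hrep hf _) g = dn hf (ap ψ _ y)) (h' : rs G (co hrep hf _) g' = dn hf (ap ψ _ y'))
    (e : rs N ((siteAdj hrep hf).unit.app T) y = rs N ((siteAdj hrep hf).unit.app T) y') : g = g' ∧ y = y' := by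
  have hfst : ∀ (g : Msec G ((EtOver.postcomp f hf).obj T)) y, rs G (co hrep hf _) g = dn hf (ap ψ _ y) →
      g = dn hf (ap ψ T (rs N ((siteAdj hrep hf).unit.app T) y)) := fun g y hh => by
    refine Eq.trans ?_ ((congrArg (dn hf) (ap_rs ψ ((siteAdj hrep hf).unit.app T) y)).trans
      (dn_rs hf ((siteAdj hrep hf).unit.app T) (ap ψ _ y))).symm
    refine Eq.trans ?_ (congrArg (rs G ((EtOver.postcomp f hf).map ((siteAdj hrep hf).unit.app T))) hh)
    refine Eq.trans ?_ (rs_rs G _ _ g).symm
    rw [map_unit_co]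
    exact (QCart.sres_id _ _).symm
  have hg : g = g' := by rw [hfst g y h, hfst g' y' h', e]
  refine ⟨hg, ext_of_sieve N (chartSieve_mem hrep hf hX hT hO hFO huniq) _ _ fun {W} hW k hk => ?_⟩
  rcases hk with hk | hk
  · have hk' : (k ≫ hT.from _) ≫ (siteAdj hrep hf).unit.app T = k := (Category.assoc _ _ _).trans hk
    exact ((congrArg (fun m => rs N m y) hk').symm.trans (rs_rs N _ _ y).symm).trans ((congrArg _ e).trans
      ((rs_rs N _ _ y').trans (congrArg (fun m => rs N m y') hk')))
  · refine (hψ W ⟨hW, hk⟩).1 ?_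
    rw [ap_rs, ap_rs, dn_inj hf (h.symm.trans ((congrArg _ hg).trans h'))]

set_option maxHeartbeats 800000 in
theorem eq_of_w {H : ModEt X} {p : H ⟶ G} {q : H ⟶ (pushModEt hrep).obj N}
    (w : p ≫ unitPR hrep hf G = q ≫ (pushModEt hrep).map ψ) {E : EtOver X} (z : Msec H E) :
    rs G (co hrep hf E) (ap p E z) = dn hf (ap ψ _ (bd hrep (ap q E z))) :=
  (unit_eq_push_iff hrep hf ψ (ap p E z) (ap q E z)).1
    ((ap_comp_apply p _ z).symm.trans ((congrArg (fun φ => ap φ E z) w).trans (ap_comp_apply q _ z)))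

theorem fib_chart_eq (z : Msec (fib (unitPR hrep hf G) ((pushModEt hrep).map ψ)) ((EtOver.postcomp f hf).obj T)) :
    rs G (co hrep hf _) (ap (fibFst (unitPR hrep hf G) ((pushModEt hrep).map ψ)) _ z) =
      dn hf (ap ψ _ (bd hrep (ap (fibSnd (unitPR hrep hf G) ((pushModEt hrep).map ψ)) _ z))) :=
  eq_of_w hrep hf ψ (fib_w _ _) z

set_option maxHeartbeats 800000 in
theorem ap_map_counit {H : ModEt X} (φ : H ⟶ (pushModEt hrep).obj N) {B : EtOver Z}
    (z : Msec H ((EtOver.postcomp f hf).obj B)) :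
    ap ((resF hf).map φ ≫ counitPR hrep hf N) B (upS hf z) =
      rs N ((siteAdj hrep hf).unit.app B) (bd hrep (ap φ _ z)) :=
  (ap_comp_apply _ _ (upS hf z)).trans ((counitPR_apply hrep hf N _).trans
    (congrArg (fun m => rs N ((siteAdj hrep hf).unit.app B) (bd hrep m)) (dn_ap hf φ (upS hf z))))

theorem ap_toN (z : Msec (fib (unitPR hrep hf G) ((pushModEt hrep).map ψ)) ((EtOver.postcomp f hf).obj T)) :
    ap ((resF hf).map (fibSnd (unitPR hrep hf G) ((pushModEt hrep).map ψ)) ≫ counitPR hrep hf N) T (upS hf z) =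
      rs N ((siteAdj hrep hf).unit.app T)
        (bd hrep (ap (fibSnd (unitPR hrep hf G) ((pushModEt hrep).map ψ)) _ z)) :=
  ap_map_counit hrep hf _ z

include hX hT hO hFO huniq hψ in
set_option maxHeartbeats 1600000 in
/-- The sections of the fibre product on the chart. -/
theorem exists_fib_chart (t : Msec N T) : ∃ z : Msec (fib (unitPR hrep hf G) ((pushModEt hrep).map ψ)) ((EtOver.postcomp f hf).obj T),
    ap (fibFst (unitPR hrep hf G) ((pushModEt hrep).map ψ)) _ z = dn hf (ap ψ T t) ∧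
      ap ((resF hf).map (fibSnd (unitPR hrep hf G) ((pushModEt hrep).map ψ)) ≫ counitPR hrep hf N) T (upS hf z) = t := by
  obtain ⟨y, hy, hyt⟩ := exists_chart_glue hrep hf ψ hX hT hO hFO huniq hψ t
  obtain ⟨z, hz₁, hz₂⟩ := exists_fib_section (unitPR hrep hf G) ((pushModEt hrep).map ψ) (dn hf (ap ψ T t))
    (bu hrep y) ((unit_eq_push_iff hrep hf ψ (dn hf (ap ψ T t)) (bu hrep y)).2 hy)
  exact ⟨z, hz₁, (ap_toN hrep hf ψ z).trans ((congrArg (fun m => rs N ((siteAdj hrep hf).unit.app T) (bd hrep m))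
    hz₂).trans hyt)⟩

include hX hT hO hFO huniq hψ in
set_option maxHeartbeats 1600000 in
/-- On the chart the fibre product is the given module. -/
theorem bijective_fib_chart : Function.Bijective
    (ap ((resF hf).map (fibSnd (unitPR hrep hf G) ((pushModEt hrep).map ψ)) ≫ counitPR hrep hf N) T) := by
  refine ⟨fun z z' e => dn_inj hf ?_, fun t => ?_⟩
  · obtain ⟨h1, h2⟩ := ext_chart hrep hf ψ hX hT hO hFO huniq hψ _ _ _ _ (fib_chart_eq hrep hf ψ (dn hf z))
      (fib_chart_eq hrep hf ψ (dn hf z')) ((ap_toN hrep hf ψ (dn hf z)).symm.trans (e.trans (ap_toN hrep hf ψ (dn hf z'))))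
    exact ext_fib_section _ _ _ _ h1 (bd_inj hrep h2)
  · obtain ⟨z, -, hz⟩ := exists_fib_chart hrep hf ψ hX hT hO hFO huniq hψ t
    exact ⟨upS hf z, hz⟩

end Groth.Agent.SubExt
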