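import Groth.Agent.SubExt.FPEtale
import Groth.Agent.AlgSpLib.LocalBaseTop
import Groth.Agent.LimPresLib.SpaceLim
import Groth.Agent.AlgSpQC10.CohDim

/-!
# Modules of finite presentation hitting finitely many sections
-/

universe u

set_option autoImplicit false
set_option linter.style.haveILetI false
set_option backward.isDefEq.respectTransparency false
set_option backward.isDefEq.respectTransparency.types false

open CategoryTheory CategoryTheory.Limits AlgebraicGeometry Opposite AlgSp TensorProduct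
open Groth.Agent.AlgSpQC10 Groth.Agent.AlgSpMor

namespace Groth.Agent.SubExt

variable {S : Scheme.{u}}

section Local

variable {X : Sp S}

/-- Cases for an affine object over `O ∪ range F`. -/
theorem cover_in_or_chart {O : Set (Points X)} (hO : IsOpen O) (F E : EtOver X)
    (hE : Set.range (Points.ofPt E.obj.hom) ⊆ O ∪ Set.range (Points.ofPt F.obj.hom)) :
    ∃ Sv ∈ etTop X E, ∀ {W : EtOver X} (g : W ⟶ E), Sv g →
      Set.range (Points.ofPt W.obj.hom) ⊆ O ∨ Nonempty (W ⟶ F) := by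
  let T : Sieve E :=
    { arrows := fun W _ => Set.range (Points.ofPt W.obj.hom) ⊆ O ∨ Nonempty (W ⟶ F)
      downward_closed := by
        rintro W W' h (hh | ⟨⟨hh⟩⟩) g
        · exact Or.inl ((range_subset_of_hom g).trans hh)
        · exact Or.inr ⟨g ≫ hh⟩ }
  refine ⟨T, mem_etTop_of_range _ fun z => ?_, fun _ h => h⟩
  rcases hE ⟨z, rfl⟩ with hz | ⟨v, hv⟩
  · let D : E.obj.left.left.Opens := ⟨Points.ofPt E.obj.hom ⁻¹' O, hO.preimage (Points.continuous_ofPt _)⟩
    refine ⟨_, AlgSpDec.etOpenι E D, mem_range_etOpenι hz, Or.inl ?_⟩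
    rintro _ ⟨w, rfl⟩
    rw [ofPt_hom (AlgSpDec.etOpenι E D) w]
    exact (AlgSpDec.range_etOpenι E D).le ⟨w, rfl⟩
  · obtain ⟨w, -, hw⟩ := AlgSpLib.exists_ofPt_of_eq (F.property.1.isPullback' E.obj.hom) hv
    exact ⟨EtOver.prodObj E F, EtOver.prodFst E F, ⟨w, hw⟩, Or.inr ⟨EtOver.prodSnd E F⟩⟩

theorem finitePresentation_of_hom (G : ModEt X) [G.IsQuasicoherent] {F W : EtOver X}
    (hF : IsAffine F.obj.left.left) (hW : IsAffine W.obj.left.left) (r : W ⟶ F)
    (h : Module.FinitePresentation (A F) (Msec G F)) : Module.FinitePresentation (A W) (Msec G W) := by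
  haveI := h
  let B := QCart.Rg (OEt X).obj r
  haveI : Module.FinitePresentation B (B ⊗[A F] Msec G F) := inferInstance
  have h2 := Module.FinitePresentation.of_equiv
    (LinearEquiv.ofBijective (QCart.bcMap r (QCart.psh (R := OEt X) G)) (isCart G hF hW r))
  exact h2

set_option maxHeartbeats 800000 in
set_option synthInstance.maxHeartbeats 200000 in
theorem fpOn_union (G : ModEt X) [G.IsQuasicoherent] {O : Set (Points X)} (hO : IsOpen O) (F : EtOver X)
    (hFa : IsAffine F.obj.left.left) (hG : FPOn G O) (hF : Module.FinitePresentation (A F) (Msec G F)) :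
    FPOn G (O ∪ Set.range (Points.ofPt F.obj.hom)) := fun E hE => by
  haveI := hE.1
  obtain ⟨Sv, hSv, hS⟩ := cover_in_or_chart hO F E hE.2
  obtain ⟨c, hc⟩ := (QCart.etBasis X).cover (E := E) hE.1 Sv hSv
  haveI : ∀ i, Module.Flat (A E) (QCart.Rg (OEt X).obj (c.m i)) := fun i =>
    (QCart.etBasis X).flat hE.1 (c.aff_Z i) (c.m i)
  refine finitePresentation_of_family (fun i => QCart.Rg (OEt X).obj (c.m i)) c.ff (Msec G E) fun i => ?_
  haveI : Module.FinitePresentation (QCart.Rg (OEt X).obj (c.m i))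
      (QCart.Sec (QCart.psh (R := OEt X) G) (c.m i)) := by
    rcases hS (c.m i) (hc i) with h | ⟨⟨r⟩⟩
    · exact hG (c.Z i) ⟨c.aff_Z i, h⟩
    · exact finitePresentation_of_hom G hFa (c.aff_Z i) r hF
  exact Module.FinitePresentation.of_equiv
    (LinearEquiv.ofBijective (QCart.bcMap (c.m i) (QCart.psh (R := OEt X) G)) (isCart G hE.1 (c.aff_Z i) (c.m i))).symm

end Local

variable [QuasiSeparatedSpace ↥S]

/-- The induction statement. -/
def Hits {X : Sp S} (M : ModEt X) (O : Set (Points X)) : Prop :=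
  ∀ {ι : Type} [Finite ι] (E₀ : ι → EtOver X), (∀ i, IsAffine (E₀ i).obj.left.left) → ∀ x : ∀ i, Msec M (E₀ i),
    ∃ (G : ModEt X) (_ : G.IsQuasicoherent) (φ : G ⟶ M), FPOn G O ∧
      ∀ i W, In O W → ∀ a : W ⟶ E₀ i, rs M a (x i) ∈ LinearMap.range (ap φ W)

omit [QuasiSeparatedSpace ↥S] in
theorem hits_empty {X : Sp S} (M : ModEt X) [M.IsQuasicoherent] : Hits M ∅ := fun {ι} _ E₀ _ x => by
  refine ⟨M, inferInstance, 𝟙 M, fun E hE => ?_, fun i W _ a => ⟨rs M a (x i), rfl⟩⟩
  haveI : Subsingleton (Msec M E) := ⟨fun a b => (eq_zero_of_in_empty M hE a).trans (eq_zero_of_in_empty M hE b).symm⟩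
  exact Module.finitePresentation_of_surjective (0 : A E →ₗ[A E] Msec M E) (fun y => ⟨0, Subsingleton.elim _ _⟩)
    (by rw [LinearMap.ker_zero]; exact Module.Finite.fg_top)

set_option maxHeartbeats 1600000 in
set_option synthInstance.maxHeartbeats 400000 in
/-- Extension across a chart. -/
theorem exists_extend_chart (X : Space S) (hqs : IsQuasiSeparatedSp X.obj)
    {O : Set (Points X.obj)} (hO : IsOpen O) (hOc : IsCompact O) (V : Over S) [IsAffine V.left]
    (f : (yon S).obj V ⟶ X.obj) (hf : RepWith @Etale f) {T : EtOver ((yon S).obj V)} (hT : IsTerminal T)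
    [IsAffine T.obj.left.left]
    (huniq : AlgSpInd.UniqLifts ((EtOver.postcomp f (AlgSpLib.isEtaleMor_of_repWith hf)).obj T).obj.hom
      ((O ∪ Set.range (Points.ofPt ((EtOver.postcomp f (AlgSpLib.isEtaleMor_of_repWith hf)).obj T).obj.hom)) \ O))
    (G : ModEt X.obj) [G.IsQuasicoherent] (hG : FPOn G O) {ι : Type} [Finite ι]
    (l : ι → Msec G ((EtOver.postcomp f (AlgSpLib.isEtaleMor_of_repWith hf)).obj T)) :
    ∃ (G' : ModEt X.obj) (_ : G'.IsQuasicoherent) (φ : G' ⟶ G),
      FPOn G' (O ∪ Set.range (Points.ofPt ((EtOver.postcomp f (AlgSpLib.isEtaleMor_of_repWith hf)).obj T).obj.hom)) ∧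
      (∀ E, In O E → Function.Surjective (ap φ E)) ∧ ∀ i, l i ∈ LinearMap.range (ap φ _) := by
  have he : IsEtaleMor f := AlgSpLib.isEtaleMor_of_repWith hf
  let Z : Space S := ⟨(yon S).obj V, IsAlgSpace.yon_obj V⟩
  have hZc : IsQuasiCompactSp Z.obj := AlgSpLib.isQuasiCompactSp_yon V
  have hZs : IsQuasiSeparatedSp Z.obj := LimPresLib.isQuasiSeparatedSp_yon_affine V
  have hfqc : IsQuasiCompactMor f := AlgSpPts.isQuasiCompactMor_of_qc_qs Z.property X.property hZc hqs f
  have hfqs : IsQuasiSeparatedMor f := AlgSpDec.isQuasiSeparatedMor_of_sp f hZs hqs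
  have hW₀c : IsCompact (Points.map f ⁻¹' O) := by
    have h := (AlgSpQC10.CohDim.isCompact_preimage_ofPt X.property hqs f hO hOc).image (Points.schemeHomeo V).continuous
    have e : Points.schemeHomeo V '' (Points.ofPt f ⁻¹' O) = Points.map f ⁻¹' O := by
      have e0 : Points.ofPt f ⁻¹' O = Points.schemeHomeo V ⁻¹' (Points.map f ⁻¹' O) := Set.ext fun v => by
        show Points.ofPt f v ∈ O ↔ Points.map f (Points.schemeHomeo V v) ∈ O
        rw [Points.ofPt_eq_map_ofScheme f v]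
        rfl
      rw [e0, Set.image_preimage_eq _ (Points.schemeHomeo V).surjective]
    rwa [e] at h
  haveI := isQuasicoherent_resF he G
  have hQ : FPOn ((resF he).obj G) (Points.map f ⁻¹' O) := fun B hB =>
    finitePresentation_resF he G B (hG _ ⟨hB.1, by
      rintro _ ⟨v, rfl⟩
      show Points.ofPt (B.obj.hom ≫ f) v ∈ O
      rw [← Points.map_ofPt]
      exact hB.2 ⟨v, rfl⟩⟩)
  obtain ⟨N, _, ψ, hN, hψ, hl⟩ := exists_fp_top Z hZc hZs T hT ((resF he).obj G)
    (hO.preimage (Points.continuous_map f)) hW₀c hQ (fun i => upS he (l i))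
  haveI := isQuasicoherent_pushres hf.rep he hfqc hfqs G
  haveI := DecentElem.isQuasicoherent_pushModEt hf.rep N hfqc hfqs
  let G' : ModEt X.obj := fib (unitPR hf.rep he G) ((pushModEt hf.rep).map ψ)
  haveI : G'.IsQuasicoherent := isQuasicoherent_fib _ _
  let φ : G' ⟶ G := fibFst (unitPR hf.rep he G) ((pushModEt hf.rep).map ψ)
  have hover : ∀ E, In O E → Function.Bijective (ap φ E) := fun E hE => bijective_fst_of_over hf.rep he ψ hψ hE
  refine ⟨G', inferInstance, φ, ?_, fun E hE => (hover E hE).2, fun i => ?_⟩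
  · refine fpOn_union G' hO _ ‹IsAffine T.obj.left.left› (fpOn_of_bijective' φ hover hG) ?_
    refine finitePresentation_of_resF he G' T ?_
    haveI := hN T (in_univ ‹IsAffine T.obj.left.left›)
    exact Module.FinitePresentation.of_equiv (LinearEquiv.ofBijective _
      (bijective_fib_chart hf.rep he ψ X.property hT hO Set.subset_union_right huniq hψ)).symm
  · obtain ⟨t, ht⟩ := hl i
    obtain ⟨z, hz, -⟩ := exists_fib_chart hf.rep he ψ X.property hT hO Set.subset_union_right huniq hψ t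
    exact ⟨z, hz.trans (congrArg (dn he) ht)⟩

set_option maxHeartbeats 1600000 in
set_option synthInstance.maxHeartbeats 400000 in
theorem hits_step (X : Space S) (hqc : IsQuasiCompactSp X.obj) (hqs : IsQuasiSeparatedSp X.obj)
    (M : ModEt X.obj) [M.IsQuasicoherent]
    {O O' : Set (Points X.obj)} (hO : IsOpen O) (hOc : IsCompact O) (V : Over S) [IsAffine V.left]
    (f : (yon S).obj V ⟶ X.obj) (hf : RepWith @Etale f) (hu : O ∪ Set.range (Points.ofPt f) = O')
    (huniq : AlgSpInd.UniqLifts f (O' \ O)) (hP : Hits M O) : Hits M O' := fun {ι} _ E₀ hE₀ x => by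
  classical
  have he : IsEtaleMor f := AlgSpLib.isEtaleMor_of_repWith hf
  let T : EtOver ((yon S).obj V) := EtOver.mk (𝟙 _) (AlgSpLib.repWith_of_isIso @Etale (𝟙 _))
  haveI : IsAffine T.obj.left.left := ‹IsAffine V.left›
  have hT : IsTerminal T := IsTerminal.ofUniqueHom
    (fun B => EtOver.homMk ((yon S).preimage B.obj.hom) ((Category.comp_id _).trans ((yon S).map_preimage _)))
    fun B m => EtOver.hom_ext _ _ ((yon S).map_injective
      (((Category.comp_id _).symm.trans (EtOver.w m)).trans ((yon S).map_preimage _).symm))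
  let F := (EtOver.postcomp f he).obj T
  have hFe : F.obj.hom = f := Category.id_comp f
  haveI : IsAffine F.obj.left.left := ‹IsAffine V.left›
  have hrange : Set.range (Points.ofPt F.obj.hom) = Set.range (Points.ofPt f) := by rw [hFe]
  have hu' : O ∪ Set.range (Points.ofPt F.obj.hom) = O' := hrange ▸ hu
  choose m Z p q hZ hc using fun i => haveI := hE₀ i; exists_prod_cover hqs (E₀ i) F
  have hgen : ∀ t : Σ i, Fin (m i), ∃ N ≤ (⊤ : Submodule (A F) (Msec M F)), N.FG ∧
      rs M (p t.1 t.2) (x t.1) ∈ pushSub M N (q t.1 t.2) := fun t =>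
    exists_fg_le_pushSub ⊤ (q t.1 t.2) (top_le_pushSub M ‹IsAffine F.obj.left.left› (hZ t.1 t.2) _ trivial)
  choose N _ hNf hNx using hgen
  obtain ⟨s, hs⟩ := Submodule.fg_iSup N hNf
  let κ := Fin s.card
  let n : κ → Msec M F := fun k => (s.equivFin.symm k).1
  obtain ⟨G₁, _, φ₁, hG₁, h₁⟩ := hP (ι := ι ⊕ κ) (Sum.elim E₀ fun _ => F)
    (fun t => by cases t with | inl i => exact hE₀ i | inr _ => exact ‹IsAffine F.obj.left.left›)
    (fun t => match t with | .inl i => x i | .inr k => n k)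
  obtain ⟨G₂, _, φ₂, hG₂, h₂, hn⟩ := exists_lifting X.property hqc hqs hO hOc M G₁ φ₁ hG₁ F n
    (fun k W hW a => h₁ (Sum.inr k) W hW a)
  choose l hl using hn
  have huniq' : AlgSpInd.UniqLifts F.obj.hom ((O ∪ Set.range (Points.ofPt F.obj.hom)) \ O) := by
    rw [hu', hFe]
    exact huniq
  obtain ⟨G, _, φ, hG, hsur, hll⟩ := exists_extend_chart X hqs hO hOc V f hf hT huniq' G₂ hG₂ l
  refine ⟨G, inferInstance, φ ≫ φ₂, hu' ▸ hG, fun i W hW a => ?_⟩
  haveI := hW.1
  have hF : ∀ y, y ∈ (⨆ t, N t) → y ∈ LinearMap.range (ap (φ ≫ φ₂) F) := fun y hy => by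
    refine (show Submodule.span (A F) (s : Set (Msec M F)) ≤ _ from Submodule.span_le.2 fun z hz => ?_) (hs.ge hy)
    obtain ⟨w, hw⟩ := hll (s.equivFin ⟨z, hz⟩)
    refine ⟨w, ?_⟩
    show ap φ₂ F (ap φ F w) = z
    rw [hw, hl]
    exact congrArg Subtype.val (s.equivFin.symm_apply_apply ⟨z, hz⟩)
  obtain ⟨Sv, hSv, hS⟩ := cover_in_or_chart hO F W (hW.2.trans hu'.ge)
  refine mem_range_of_local (φ ≫ φ₂) hW.1 _ hSv fun {W'} hW' g hg => ?_
  rw [rs_rs]
  rcases hS g hg with h | ⟨⟨r⟩⟩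
  · obtain ⟨y, hy⟩ := h₂ W' ⟨hW', h⟩ (h₁ (Sum.inl i) W' ⟨hW', h⟩ (g ≫ a))
    obtain ⟨w, rfl⟩ := hsur W' ⟨hW', h⟩ y
    exact ⟨w, hy⟩
  · obtain ⟨R, hR, hR'⟩ := hc i (g ≫ a) r
    refine mem_range_of_local (φ ≫ φ₂) hW' _ hR fun {V'} hV' h' hh' => ?_
    obtain ⟨k, b, hb₁, -⟩ := hR' h' hh'
    rw [rs_rs, ← hb₁, ← rs_rs]
    have h3 := rs_mem_pushSub (q i k) b (hNx ⟨i, k⟩)
    refine (show pushSub M (N ⟨i, k⟩) (b ≫ q i k) ≤ LinearMap.range (ap (φ ≫ φ₂) V') from Submodule.span_le.2 ?_) h3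
    rintro _ ⟨y, hy, rfl⟩
    obtain ⟨w, rfl⟩ := hF y (le_iSup N ⟨i, k⟩ hy)
    exact ⟨rs G (b ≫ q i k) w, ap_rs _ _ _⟩

/-- A quasi-coherent module receives maps from modules of finite presentation hitting any finitely many sections. -/
theorem exists_fp_hitting (X : Space S) (hqc : IsQuasiCompactSp X.obj) (hqs : IsQuasiSeparatedSp X.obj)
    (M : ModEt X.obj) [M.IsQuasicoherent] {ι : Type} [Finite ι] (E₀ : ι → EtOver X.obj)
    (hE₀ : ∀ i, IsAffine (E₀ i).obj.left.left) (x : ∀ i, Msec M (E₀ i)) :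
    ∃ (G : ModEt X.obj) (_ : G.IsQuasicoherent) (φ : G ⟶ M), G.IsFinitePresentation ∧
      ∀ i, x i ∈ LinearMap.range (ap φ (E₀ i)) := by
  have h : Hits M (Set.univ : Set (Points X.obj)) :=
    AlgSpInd.open_induction X hqc hqs (fun O => Hits M O) ∅ isOpen_empty isCompact_empty (hits_empty M)
      fun O O' hO hOc _ _ _ V _ f hf hu huniq hP => hits_step X hqc hqs M hO hOc V f hf hu huniq hP
  obtain ⟨G, _, φ, hG, hx⟩ := h E₀ hE₀ x
  refine ⟨G, inferInstance, φ, isFinitePresentation_of_cart (R := OEt X.obj) (isCart G)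
    (fun E hE => hG E (in_univ hE)), fun i => ?_⟩
  have := hx i (E₀ i) (in_univ (hE₀ i)) (𝟙 _)
  rwa [show rs M (𝟙 (E₀ i)) (x i) = x i from QCart.sres_id _ _] at this

end Groth.Agent.SubExt
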