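import Groth.Agent.SubExt.FPOpen

/-!
# Modules of finite presentation on a space with an affine terminal etale object
-/

universe w v₁ u₁ u

set_option autoImplicit false
set_option linter.style.haveILetI false
set_option linter.unusedSectionVars false
set_option backward.isDefEq.respectTransparency false
set_option backward.isDefEq.respectTransparency.types false

open CategoryTheory CategoryTheory.Limits AlgebraicGeometry Opposite TensorProduct

namespace Groth.Agent.SubExt

section Generic

open Groth.Agent.QCart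

variable {C : Type u₁} [Category.{v₁} C] {J : GrothendieckTopology C}
  [J.HasSheafCompose (forget₂ CommRingCat.{w} RingCat.{w})]
  [J.HasSheafCompose (CategoryTheory.forget AddCommGrpCat.{w})]
  [HasSheafify J AddCommGrpCat.{w}] [J.WEqualsLocallyBijective AddCommGrpCat.{w}]
  {R : Sheaf J CommRingCat.{w}}

/-- Sections of a free sheaf on a finite type are finitely presented. -/
theorem finitePresentation_free (I : Type w) [Finite I] (E : C) :
    Module.FinitePresentation (R.obj.obj (op E)) ((psh (SheafOfModules.free (R := RS R) I)).obj (op E)) := by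
  classical
  haveI : Fintype I := Fintype.ofFinite _
  let F := SheafOfModules.free (R := RS R) I
  let hF := SheafOfModules.isColimitFreeCofan (R := RS R) I
  let ι : I → (SheafOfModules.unit (RS R) ⟶ F) := SheafOfModules.ιFree
  let π : I → (F ⟶ SheafOfModules.unit (RS R)) := fun i =>
    hF.desc (Cofan.mk _ fun j => if i = j then 𝟙 _ else 0)
  have hπ : ∀ i j, ι j ≫ π i = if i = j then 𝟙 _ else 0 := fun i j => hF.fac _ ⟨j⟩
  have hid : ∑ i, π i ≫ ι i = 𝟙 F := by
    refine hF.hom_ext fun ⟨j⟩ => ?_
    show ι j ≫ _ = ι j ≫ 𝟙 F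
    rw [Preadditive.comp_sum, Category.comp_id, Finset.sum_eq_single j]
    · rw [← Category.assoc, hπ, if_pos rfl, Category.id_comp]
    · intro i _ hij
      rw [← Category.assoc, hπ, if_neg hij, zero_comp]
    · intro h; exact absurd (Finset.mem_univ j) h
  let A := R.obj.obj (op E)
  let M := (psh F).obj (op E)
  let one : (psh (SheafOfModules.unit (RS R))).obj (op E) := (1 : R.obj.obj (op E))
  let gen : I → M := fun i => (phom (ι i)).app (op E) one
  let Φ : M →ₗ[A] (I → A) := LinearMap.pi fun i => ((phom (π i)).app (op E)).hom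
  let Ψ : (I → A) →ₗ[A] M := Fintype.linearCombination A gen
  have hΨΦ : Ψ.comp Φ = LinearMap.id := by
    refine LinearMap.ext fun x => ?_
    have hx : x = ∑ i, (phom (ι i)).app (op E) ((phom (π i)).app (op E) x) := by
      let Θ : (F ⟶ F) →+ M := AddMonoidHom.mk' (fun f => (phom f).app (op E) x) fun _ _ => rfl
      have h := congrArg Θ hid
      rw [map_sum] at h
      exact h.symm
    show Ψ (Φ x) = x
    conv_rhs => rw [hx]
    rw [Fintype.linearCombination_apply]
    refine Finset.sum_congr rfl fun i _ => ?_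
    let a : R.obj.obj (op E) := (phom (π i)).app (op E) x
    have ha : (phom (π i)).app (op E) x = a • one := (mul_one a).symm
    rw [ha, app_smul']
    rfl
  haveI : Module.Projective A M := Module.Projective.of_split Φ Ψ hΨΦ
  haveI : Module.Finite A M := Module.Finite.of_surjective Ψ fun x => ⟨Φ x, LinearMap.congr_fun hΨΦ x⟩
  exact Module.finitePresentation_of_projective A M

end Generic

open AlgSp
open Groth.Agent.AlgSpQC10 Groth.Agent.AlgSpMor

variable {S : Scheme.{u}}

theorem top_le_pushSub {X : Sp S} (M : ModEt X) [M.IsQuasicoherent] {E₀ W : EtOver X}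
    (hE₀ : IsAffine E₀.obj.left.left) (hW : IsAffine W.obj.left.left) (a : W ⟶ E₀) :
    ⊤ ≤ pushSub M (⊤ : Submodule (A E₀) (Msec M E₀)) a := by
  intro y _
  obtain ⟨z, hz⟩ := (isCart M hE₀ hW a).2 (QCart.toSec a (QCart.psh (R := OEt X) M) y)
  have key : (show Msec M W from QCart.bcMap a (QCart.psh (R := OEt X) M) z) ∈ pushSub M ⊤ a := by
    clear hz
    induction z using TensorProduct.induction_on with
    | zero => rw [map_zero]; exact zero_mem _
    | add p q hp hq => rw [map_add]; exact add_mem hp hq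
    | tmul b x =>
      rw [QCart.bcMap_tmul]
      exact Submodule.smul_mem _ (show A W from b) (Submodule.subset_span ⟨x, trivial, rfl⟩)
  rw [hz] at key
  exact key

variable [QuasiSeparatedSpace ↥S]

set_option maxHeartbeats 1600000 in
set_option synthInstance.maxHeartbeats 400000 in
/-- Given sections on the affine terminal object, a module with finitely presented sections mapping to a given one,
hitting the sections, bijectively over an open set where the latter is finitely presented. -/
theorem exists_fp_top (Z : Space S) (hqc : IsQuasiCompactSp Z.obj) (hqs : IsQuasiSeparatedSp Z.obj)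
    (T : EtOver Z.obj) (hT : IsTerminal T) [IsAffine T.obj.left.left] (Q : ModEt Z.obj) [Q.IsQuasicoherent]
    {W₀ : Set (Points Z.obj)} (hW₀ : IsOpen W₀) (hW₀c : IsCompact W₀) (hQ : FPOn Q W₀) {ι : Type} [Finite ι]
    (n : ι → Msec Q T) :
    ∃ (N : ModEt Z.obj) (_ : N.IsQuasicoherent) (ψ : N ⟶ Q), FPOn N Set.univ ∧
      (∀ E, In W₀ E → Function.Bijective (ap ψ E)) ∧ ∀ i, n i ∈ LinearMap.range (ap ψ T) := by
  classical
  have hTa : IsAffine T.obj.left.left := ‹_›
  obtain ⟨κ, _, P, p, hP, hc⟩ := exists_open_pieces Z.property hqs hW₀ hW₀c T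
  choose L _ hLf hLp using fun k => exists_fg_of_fg_le_pushSub (M := Q) ⊤ (p k) (L := ⊤)
    (haveI := hQ _ (hP k); Module.Finite.fg_top) (top_le_pushSub Q hTa (hP k).1 (p k))
  obtain ⟨s, hs⟩ := Submodule.fg_iSup L hLf
  let I : Type (u + 1) := ι ⊕ ↥s
  let x : I → Msec Q T := Sum.elim n fun z => z.1
  let Fr : ModEt Z.obj := SheafOfModules.free (R := OEtRing Z.obj) I
  haveI : Fr.IsQuasicoherent :=
    (QCart.isQuasicoherent_iff Z.obj _).2 ((QCart.etBasis Z.obj).isCart_free (R := OEt Z.obj) I)
  let sec : I → Q.sections := fun i => QCart.globalSec (R := OEt Z.obj) hT (x i)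
  let θ : Fr ⟶ Q := (SheafOfModules.freeHomEquiv Q).symm sec
  have hFr : ∀ E, Module.FinitePresentation (A E) (Msec Fr E) := fun E =>
    finitePresentation_free (R := OEt Z.obj) I E
  have hxr : ∀ i, x i ∈ LinearMap.range (ap θ T) := fun i => by
    refine ⟨(SheafOfModules.freeSection (R := OEtRing Z.obj) i).val (op T), ?_⟩
    have h1 := congrArg (fun q : Q.sections => q.val (op T))
      (SheafOfModules.sectionsMap_freeHomEquiv_symm_freeSection (R := OEtRing Z.obj) sec i)
    refine h1.trans ?_
    show rs Q (hT.from T) (x i) = x i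
    rw [hT.hom_ext (hT.from T) (𝟙 T)]
    exact QCart.sres_id _ _
  have hsurj : ∀ E, In W₀ E → Function.Surjective (ap θ E) := fun E hE m => by
    obtain ⟨Sv, hSv, hS⟩ := hc (hT.from E) hE.2
    refine mem_range_of_local θ hE.1 m hSv fun {V} hV g hg => ?_
    obtain ⟨k, l, -⟩ := hS g hg
    have h2 := pushSub_le_pushSub_comp (M := Q) (p k) (hLp k) l (top_le_pushSub Q (hP k).1 hV l
      (Submodule.mem_top (x := rs Q g m)))
    refine (show pushSub Q (L k) (l ≫ p k) ≤ LinearMap.range (ap θ V) from Submodule.span_le.2 ?_) h2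
    rintro _ ⟨y, hy, rfl⟩
    have hy' : y ∈ LinearMap.range (ap θ T) :=
      (show Submodule.span (A T) (s : Set (Msec Q T)) ≤ _ from Submodule.span_le.2 fun z hz => hxr (Sum.inr ⟨z, hz⟩))
        (hs.ge (le_iSup L k hy))
    obtain ⟨w, rfl⟩ := hy'
    exact ⟨rs Fr (l ≫ p k) w, ap_rs _ _ _⟩
  haveI := isQuasicoherent_kernel θ
  have hT₀ : IsFGSub (kernel θ) W₀ fun _ => ⊤ := by
    refine ⟨fun _ _ _ _ _ => trivial, fun {E E'} hE hE' g => top_le_pushSub _ hE.1 hE'.1 g, fun {E} hE => ?_⟩
    haveI := hQ E hE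
    haveI := hFr E
    have hr : LinearMap.range (ap (kernel.ι θ) E) = LinearMap.ker (ap θ E) :=
      le_antisymm (by rintro _ ⟨w, rfl⟩; exact ap_kernel_eq_zero θ w) fun w hw => exists_kernel_lift θ w hw
    haveI : Module.Finite (A E) (LinearMap.range (ap (kernel.ι θ) E)) := by
      rw [hr]
      exact Module.Finite.iff_fg.2 (Module.FinitePresentation.fg_ker _ (hsurj E hE))
    haveI : Module.Finite (A E) (Msec (kernel θ) E) :=
      Module.Finite.equiv (LinearEquiv.ofInjective (ap (kernel.ι θ) E)
        (QCart.injective_app_of_mono (R := OEt Z.obj) (kernel.ι θ) E)).symm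
    exact Module.Finite.fg_top
  obtain ⟨T', hT', hTW, -⟩ := exists_extension Z hqc hqs (kernel θ) hW₀ hW₀c hT₀
    (ι := PEmpty.{1}) (fun i => i.elim) (fun i => i.elim) (fun i => i.elim) (fun i => i.elim)
  let K : ModEt Z.obj := (subData hT').shf
  haveI : K.IsQuasicoherent := isQuasicoherent_subData hT'
  haveI : K.IsFiniteType := isFiniteType_subData hT'
  haveI : Mono ((subData hT').ι : K ⟶ kernel θ) := inferInstanceAs (Mono (subData hT').ι)
  let κι : K ⟶ Fr := ((subData hT').ι : K ⟶ kernel θ) ≫ kernel.ι θ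
  haveI : Mono κι := mono_comp _ _
  haveI := isQuasicoherent_cokernel κι
  let ψ : cokernel κι ⟶ Q := cokernel.desc κι θ (by
    show (((subData hT').ι : K ⟶ kernel θ) ≫ kernel.ι θ) ≫ θ = 0
    rw [Category.assoc, kernel.condition, comp_zero])
  have hπψ : cokernel.π κι ≫ ψ = θ := cokernel.π_desc _ _ _
  have hψ : ∀ E (w : Msec Fr E), ap ψ E (ap (cokernel.π κι) E w) = ap θ E w := fun E w =>
    congrArg (fun φ => ap φ E w) hπψ
  refine ⟨cokernel κι, inferInstance, ψ, fpOn_cokernel κι (fun E _ => hFr E) (fun E hE =>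
    haveI := hE.1; finite_Msec K E), fun E hE => ⟨?_, ?_⟩, fun i => ?_⟩
  · refine (injective_iff_map_eq_zero _).2 fun w hw => ?_
    obtain ⟨y, rfl⟩ := (cokernel_sections κι E hE.1).1 w
    obtain ⟨v, rfl⟩ := exists_kernel_lift θ y ((hψ E y).symm.trans hw)
    obtain ⟨v', rfl⟩ := (range_ι_subData hT' hE.1).ge ((hTW E hE).symm ▸ Submodule.mem_top : v ∈ T' E)
    exact QCart.app_g_f (R := OEt Z.obj) (ShortComplex.mk κι (cokernel.π κι) (cokernel.condition κι)) v'
  · intro m
    obtain ⟨w, rfl⟩ := hsurj E hE m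
    exact ⟨_, hψ E w⟩
  · obtain ⟨w, hw⟩ := hxr (Sum.inl i)
    exact ⟨_, (hψ T w).trans hw⟩

end Groth.Agent.SubExt
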