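import Groth.Agent.SubExt.PushRes
import Groth.Agent.SubExt.FromOpen
import Groth.Agent.AlgSpDec.LqfScheme
import Groth.Agent.AlgSpPts.OpenSub

/-!
# Lifting sections to modules of finite presentation over an open set of points
-/

universe u

set_option autoImplicit false
set_option linter.style.haveILetI false
set_option backward.isDefEq.respectTransparency false
set_option backward.isDefEq.respectTransparency.types false

open CategoryTheory CategoryTheory.Limits AlgebraicGeometry Opposite AlgSp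
open Groth.Agent.AlgSpQC10 Groth.Agent.AlgSpMor

namespace Groth.Agent.SubExt

variable {S : Scheme.{u}} {X : Sp S}

/-- The sections on affine objects over `O` are finitely presented. -/
def FPOn (G : ModEt X) (O : Set (Points X)) : Prop :=
  ∀ E, In O E → Module.FinitePresentation (A E) (Msec G E)

theorem fpOn_of_bijective {G G' : ModEt X} (φ : G ⟶ G') {O : Set (Points X)}
    (h : ∀ E, In O E → Function.Bijective (ap φ E)) (hG : FPOn G O) : FPOn G' O := fun E hE => by
  haveI := hG E hE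
  exact Module.FinitePresentation.of_equiv (LinearEquiv.ofBijective (ap φ E) (h E hE))

theorem fpOn_of_bijective' {G G' : ModEt X} (φ : G ⟶ G') {O : Set (Points X)}
    (h : ∀ E, In O E → Function.Bijective (ap φ E)) (hG : FPOn G' O) : FPOn G O := fun E hE => by
  haveI := hG E hE
  exact Module.FinitePresentation.of_equiv (LinearEquiv.ofBijective (ap φ E) (h E hE)).symm

set_option maxHeartbeats 1000000 in
theorem ap_pushres_eq_unitPR {U : Sp S} {j : U ⟶ X} (hrep : Representable j) (hje : IsEtaleMor j) {G M : ModEt X}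
    (φ : G ⟶ M) {F : EtOver X} (t : Msec G ((EtOver.postcomp j hje).obj ((EtOver.bc hrep).obj F)))
    (m : Msec M F) (h : ap φ _ t = rs M (co hrep hje F) m) :
    ap ((pushModEt hrep).map ((resF hje).map φ)) F (bu hrep (upS hje t)) = ap (unitPR hrep hje M) F m := by
  have e₁ : dn hje (bd hrep (ap ((pushModEt hrep).map ((resF hje).map φ)) F (bu hrep (upS hje t)))) =
      dn hje (bd hrep (ap (unitPR hrep hje M) F m)) :=
    (dn_ap hje φ (bd hrep (bu hrep (upS hje t)))).trans (h.trans (unitPR_apply hrep hje M m).symm)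
  exact e₁

/-- A quotient by a submodule finitely generated on the affine objects over `O` keeps finite presentation. -/
theorem fpOn_cokernel {K G : ModEt X} (ι : K ⟶ G) [Mono ι] [K.IsQuasicoherent] {O : Set (Points X)}
    (hG : FPOn G O) (hK : ∀ E, In O E → Module.Finite (A E) (Msec K E)) : FPOn (cokernel ι) O := fun E hE => by
  haveI := hG E hE
  haveI := hK E hE
  obtain ⟨hs, hk⟩ := cokernel_sections ι E hE.1
  exact Module.finitePresentation_of_surjective (ap (cokernel.π ι) E) hs
    (hk.symm ▸ Module.Finite.iff_fg.1 (Module.Finite.range (ap ι E)))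

section Open

variable {U : Sp S} {j : U ⟶ X} (hj : RepWith @IsOpenImmersion j)

theorem mono_co_open (E : EtOver X) : Mono (co hj.rep (isEtaleMor_openImm hj) E) := by
  refine ⟨fun {W} a b h => EtOver.hom_ext _ _ (hj.rep.hom_ext ?_ ?_)⟩
  · haveI := AlgSpDec.mono_of_openImm hj
    refine (cancel_mono j).1 ?_
    rw [Category.assoc, Category.assoc]
    exact (EtOver.w a).trans (EtOver.w b).symm
  · have e := congrArg (fun k : W ⟶ E => k.hom.left) h
    have hc := co_hom_left hj.rep (isEtaleMor_openImm hj) E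
    show a.hom.left ≫ hj.rep.snd E.obj.hom = b.hom.left ≫ hj.rep.snd E.obj.hom
    rw [← hc]
    exact e

set_option maxHeartbeats 1000000 in
theorem isIso_co_open (hU : IsAlgSpace U) (hX : IsAlgSpace X) (E : EtOver X)
    (hE : Set.range (Points.ofPt E.obj.hom) ⊆ Set.range (Points.map j)) :
    IsIso (co hj.rep (isEtaleMor_openImm hj) E) := by
  obtain ⟨A, u, hu⟩ := exists_postcomp_iso hU hX hj E hE
  haveI := mono_co_open hj E
  let l := (siteAdj hj.rep (isEtaleMor_openImm hj)).homEquiv A E u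
  have hl : (EtOver.postcomp j (isEtaleMor_openImm hj)).map l ≫ co hj.rep (isEtaleMor_openImm hj) E = u :=
    ((siteAdj hj.rep (isEtaleMor_openImm hj)).homEquiv_counit (g := l)).symm.trans
      (((siteAdj hj.rep (isEtaleMor_openImm hj)).homEquiv A E).symm_apply_apply u)
  refine ⟨inv u ≫ (EtOver.postcomp j (isEtaleMor_openImm hj)).map l, ?_, ?_⟩
  · rw [← cancel_mono (co hj.rep (isEtaleMor_openImm hj) E), Category.assoc, Category.assoc, hl,
      IsIso.inv_hom_id, Category.comp_id, Category.id_comp]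
  · rw [Category.assoc, hl, IsIso.inv_hom_id]

set_option maxHeartbeats 1000000 in
theorem bijective_unitPR_open (hU : IsAlgSpace U) (hX : IsAlgSpace X) (M : ModEt X) (E : EtOver X)
    (hE : Set.range (Points.ofPt E.obj.hom) ⊆ Set.range (Points.map j)) :
    Function.Bijective (ap (unitPR hj.rep (isEtaleMor_openImm hj) M) E) := by
  haveI := isIso_co_open hj hU hX E hE
  let c := co hj.rep (isEtaleMor_openImm hj) E
  have hb : Function.Bijective (rs M c) := Function.bijective_iff_has_inverse.2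
    ⟨rs M (inv c), fun x => by rw [rs_rs, IsIso.inv_hom_id]; exact QCart.sres_id _ x,
      fun x => by rw [rs_rs, IsIso.hom_inv_id]; exact QCart.sres_id _ x⟩
  exact hb

end Open

variable [QuasiSeparatedSpace ↥S]

set_option maxHeartbeats 1600000 in
set_option synthInstance.maxHeartbeats 400000 in
/-- Sections hit by a module of finite presentation over `O` lift to such a module. -/
theorem exists_lifting (hX : IsAlgSpace X) (hqc : IsQuasiCompactSp X) (hqs : IsQuasiSeparatedSp X)
    {O : Set (Points X)} (hO : IsOpen O) (hOc : IsCompact O) (M : ModEt X) [M.IsQuasicoherent] (G₁ : ModEt X)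
    [G₁.IsQuasicoherent] (φ₁ : G₁ ⟶ M) (hG₁ : FPOn G₁ O) (F : EtOver X) [IsAffine F.obj.left.left] {ι : Type}
    [Finite ι] (n : ι → Msec M F)
    (hn : ∀ i W, In O W → ∀ a : W ⟶ F, rs M a (n i) ∈ LinearMap.range (ap φ₁ W)) :
    ∃ (G : ModEt X) (_ : G.IsQuasicoherent) (φ : G ⟶ M), FPOn G O ∧
      (∀ E, In O E → LinearMap.range (ap φ₁ E) ≤ LinearMap.range (ap φ E)) ∧
      ∀ i, n i ∈ LinearMap.range (ap φ F) := by
  classical
  obtain ⟨κ, _, Z, q, hZ, hc⟩ := exists_open_pieces hX hqs hO hOc F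
  choose g hg using fun (i : ι) (k : κ) => hn i (Z k) (hZ k) (q k)
  let b := QCart.etBasis X
  have hF : b.aff F := ‹IsAffine F.obj.left.left›
  let P : κ → κ → EtOver X := fun k l => b.prod hF (hZ k).1 (hZ l).1 (q k) (q l)
  let pk : ∀ k l, P k l ⟶ Z k := fun k l => b.fst hF (hZ k).1 (hZ l).1 (q k) (q l)
  let pl : ∀ k l, P k l ⟶ Z l := fun k l => b.snd hF (hZ k).1 (hZ l).1 (q k) (q l)
  have hP : ∀ k l, IsPullback (pk k l) (pl k l) (q k) (q l) := fun k l => b.isPullback hF _ _ _ _
  let T' : Type := ι × κ × κ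
  let d : ∀ t : T', Msec G₁ (P t.2.1 t.2.2) := fun t =>
    rs G₁ (pk t.2.1 t.2.2) (g t.1 t.2.1) - rs G₁ (pl t.2.1 t.2.2) (g t.1 t.2.2)
  have hd : ∀ t, ap φ₁ _ (d t) = 0 := fun t => by
    rw [map_sub, ap_rs, ap_rs, hg, hg, rs_rs, rs_rs, (hP t.2.1 t.2.2).w, sub_self]
  choose y hy using fun t => exists_kernel_lift φ₁ (d t) (hd t)
  haveI := isQuasicoherent_kernel φ₁
  obtain ⟨T, hT, hTy⟩ := exists_containing ⟨X, hX⟩ hqc hqs (kernel φ₁) (fun t : T' => P t.2.1 t.2.2)
    (fun t => b.aff_prod hF _ _ _ _) y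
  let K : ModEt X := (subData hT).shf
  haveI : K.IsQuasicoherent := isQuasicoherent_subData hT
  haveI : K.IsFiniteType := isFiniteType_subData hT
  haveI : Mono ((subData hT).ι : K ⟶ kernel φ₁) := inferInstanceAs (Mono (subData hT).ι)
  let κι : K ⟶ G₁ := ((subData hT).ι : K ⟶ kernel φ₁) ≫ kernel.ι φ₁
  haveI : Mono κι := mono_comp _ _
  let G₂ : ModEt X := cokernel κι
  haveI : G₂.IsQuasicoherent := isQuasicoherent_cokernel κι
  let π : G₁ ⟶ G₂ := cokernel.π κι
  let φ₂ : G₂ ⟶ M := cokernel.desc κι φ₁ (by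
    show (((subData hT).ι : K ⟶ kernel φ₁) ≫ kernel.ι φ₁) ≫ φ₁ = 0
    rw [Category.assoc, kernel.condition, comp_zero])
  have hπφ : π ≫ φ₂ = φ₁ := cokernel.π_desc _ _ _
  have hG₂ : FPOn G₂ O := fpOn_cokernel κι hG₁ fun E hE => haveI := hE.1; finite_Msec K E
  have hπd : ∀ t, ap π _ (d t) = 0 := fun t => by
    obtain ⟨w, hw⟩ := (range_ι_subData hT (b.aff_prod hF (hZ t.2.1).1 (hZ t.2.2).1 (q t.2.1) (q t.2.2))).ge (hTy t)
    rw [← hy t, ← hw]
    exact QCart.app_g_f (R := OEt X) (ShortComplex.mk κι π (cokernel.condition κι)) w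
  obtain ⟨U, j, hU, hj, hr⟩ := AlgSpPts.exists_open_subspace hX hO
  subst hr
  have hje := isEtaleMor_openImm hj
  haveI := AlgSpDec.mono_of_openImm hj
  have hjqc : IsQuasiCompactMor j := AlgSpPts.isQuasiCompactMor_of_qc_qs hU hX
    (AlgSpInd.isQuasiCompactSp_of_isCompact_range hU hX hj hOc) hqs j
  have hjqs : IsQuasiSeparatedMor j :=
    AlgSpDec.isQuasiSeparatedMor_of_isSeparatedMor (AlgSpDec.isSeparatedMor_of_mono _)
  haveI := isQuasicoherent_pushres hj.rep hje hjqc hjqs G₂
  haveI := isQuasicoherent_pushres hj.rep hje hjqc hjqs M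
  let μ := (pushModEt hj.rep).map ((resF hje).map φ₂)
  let G : ModEt X := fib μ (unitPR hj.rep hje M)
  haveI : G.IsQuasicoherent := isQuasicoherent_fib _ _
  have hfst : ∀ E, In (Set.range (Points.map j)) E → Function.Bijective (ap (fibFst μ (unitPR hj.rep hje M)) E) :=
    fun E hE => bijective_fibFst _ _ (bijective_unitPR_open hj hU hX M E hE.2)
  refine ⟨G, inferInstance, fibSnd μ (unitPR hj.rep hje M), ?_, fun E hE => ?_, fun i => ?_⟩
  · exact fpOn_of_bijective' _ hfst (fpOn_of_bijective (unitPR hj.rep hje G₂)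
      (fun E hE => bijective_unitPR_open hj hU hX G₂ E hE.2) hG₂)
  · rintro _ ⟨x, rfl⟩
    obtain ⟨z, hz, hz'⟩ := exists_fib_section μ (unitPR hj.rep hje M)
      (ap (unitPR hj.rep hje G₂) E (ap π E x)) (ap φ₁ E x) (by
        rw [← ap_comp_apply, ← unitPR_natural, ap_comp_apply, ← hπφ]
        rfl)
    exact ⟨z, hz'⟩
  · let E' := (EtOver.postcomp j hje).obj ((EtOver.bc hj.rep).obj F)
    let c : E' ⟶ F := co hj.rep hje F
    haveI : Mono c := mono_co_open hj F
    have hE'O : Set.range (Points.ofPt E'.obj.hom) ⊆ Set.range (Points.map j) := range_subset_of_postcomp hje _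
    have hlift : ∀ k, ∃ r : Z k ⟶ E', r ≫ c = q k := fun k => by
      obtain ⟨A, u, hu⟩ := exists_postcomp_iso hU hX hj (Z k) (hZ k).2
      refine ⟨inv u ≫ (EtOver.postcomp j hje).map ((siteAdj hj.rep hje).homEquiv A F (u ≫ q k)), ?_⟩
      rw [Category.assoc]
      refine Eq.trans (congrArg (inv u ≫ ·) ?_) (IsIso.inv_hom_id_assoc u (q k))
      exact ((siteAdj hj.rep hje).homEquiv_counit (g := (siteAdj hj.rep hje).homEquiv A F (u ≫ q k))).symm.trans
        (((siteAdj hj.rep hje).homEquiv A F).symm_apply_apply _)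
    choose r hr using hlift
    obtain ⟨Sv, hSv, hS⟩ := hc c hE'O
    have hcov : Sieve.ofArrows Z r ∈ etTop X E' := (etTop X).superset_covering (fun V h hh => by
      obtain ⟨k, l, hl⟩ := hS h hh
      exact (Sieve.mem_ofArrows_iff _ _ _).2 ⟨k, l, (cancel_mono c).1 (by rw [Category.assoc, hr, hl])⟩) hSv
    obtain ⟨t, ht⟩ := QCart.exists_glue_sheaf (R := OEt X) G₂ hcov (fun k => ap π (Z k) (g i k))
      fun V k l a a' e => by
        refine ext_of_affine G₂ _ _ fun W hW h => ?_
        show rs G₂ h (rs G₂ a (ap π (Z k) (g i k))) = rs G₂ h (rs G₂ a' (ap π (Z l) (g i l)))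
        rw [rs_rs, rs_rs, ← ap_rs, ← ap_rs, ← sub_eq_zero, ← map_sub]
        have e' : (h ≫ a) ≫ q k = (h ≫ a') ≫ q l := by
          rw [← hr, ← hr, Category.assoc, Category.assoc, ← Category.assoc a, ← Category.assoc a', e]
        rw [← (hP k l).lift_fst (h ≫ a) (h ≫ a') e']
        conv_lhs => arg 2; arg 2; rw [← (hP k l).lift_snd (h ≫ a) (h ≫ a') e']
        rw [← rs_rs, ← rs_rs G₁ (pl k l), ← map_sub, ap_rs]
        exact (congrArg (rs G₂ _) (hπd (i, k, l))).trans (map_zero _)
    have htn : ap φ₂ E' t = rs M c (n i) := by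
      refine ext_of_sieve M hcov _ _ fun {W} hW f hf => ?_
      obtain ⟨k, l, rfl⟩ := (Sieve.mem_ofArrows_iff _ _ _).1 hf
      rw [← rs_rs, ← rs_rs, ← ap_rs]
      refine congrArg (rs M l) (Eq.trans ?_ ((congrArg (fun m => rs M m (n i)) (hr k).symm).trans (rs_rs M c (r k) (n i)).symm))
      rw [show rs G₂ (r k) t = ap π (Z k) (g i k) from ht k, ← ap_comp_apply, hπφ]
      exact hg i k
    obtain ⟨z, -, hz⟩ := exists_fib_section μ (unitPR hj.rep hje M)
      (bu hj.rep (upS hje t)) (n i) (ap_pushres_eq_unitPR hj.rep hje φ₂ t (n i) htn)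
    exact ⟨z, hz⟩

end Groth.Agent.SubExt
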