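import Groth.Agent.SubExt.Local
import Groth.Agent.AlgSpQC10.MVPair
import Groth.Agent.AlgSpInd.Basic

/-!
# Extending finitely generated submodules across an etale chart
-/

universe u

set_option autoImplicit false
set_option linter.style.haveILetI false
set_option backward.isDefEq.respectTransparency false
set_option backward.isDefEq.respectTransparency.types false

open CategoryTheory CategoryTheory.Limits AlgebraicGeometry Opposite AlgSp TensorProduct
open Groth.Agent.AlgSpQC10 Groth.Agent.AlgSpMor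

namespace Groth.Agent.SubExt

variable {S : Scheme.{u}} {X : Sp S}

/-- Finitely many affine objects with images covering a compact open set of points. -/
theorem exists_open_affines (hX : IsAlgSpace X) {O : Set (Points X)} (hO : IsOpen O) (hOc : IsCompact O) :
    ∃ (n : ℕ) (F : Fin n → EtOver X), (∀ j, In O (F j)) ∧
      ∀ x ∈ O, ∃ j, x ∈ Set.range (Points.ofPt (F j).obj.hom) := by
  classical
  obtain ⟨U, a, ha, has⟩ := hX.atlas
  let P := EtOver.mk a ha
  let I := { D : U.left.Opens // IsAffineOpen D ∧ ∀ u ∈ D, Points.ofPt a u ∈ O }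
  have hsub : O ⊆ ⋃ D : I, Points.ofPt a '' (D.1 : Set U.left) := fun x hx => by
    obtain ⟨u, rfl⟩ := AlgSpLib.surjective_ofPt has x
    let V : U.left.Opens := ⟨Points.ofPt a ⁻¹' O, hO.preimage (Points.continuous_ofPt a)⟩
    obtain ⟨D, hD, huD, hDV⟩ := exists_isAffineOpen_mem_and_subset (U := V) (x := u) hx
    exact Set.mem_iUnion.2 ⟨⟨D, hD, fun v hv => hDV hv⟩, u, huD, rfl⟩
  obtain ⟨t, ht⟩ := hOc.elim_finite_subcover (fun D : I => Points.ofPt a '' (D.1 : Set U.left))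
    (fun D => AlgSpLib.isOpenMap_ofPt ha _ D.1.isOpen) hsub
  let e := t.equivFin.symm
  refine ⟨t.card, fun j => AlgSpDec.etOpen P (e j).1.1, fun j => ⟨(e j).1.2.1, ?_⟩, fun x hx => ?_⟩
  · rintro _ ⟨v, rfl⟩
    rw [ofPt_hom (AlgSpDec.etOpenι P (e j).1.1) v]
    exact (e j).1.2.2 _ ((AlgSpDec.range_etOpenι P (e j).1.1).le ⟨v, rfl⟩)
  · obtain ⟨D, hD, u, hu, rfl⟩ := Set.mem_iUnion₂.1 (ht hx)
    have key : ∀ D' : I, u ∈ D'.1 →
        Points.ofPt a u ∈ Set.range (Points.ofPt (AlgSpDec.etOpen P D'.1).obj.hom) := fun D' hu' => by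
      obtain ⟨v, hv⟩ := (AlgSpDec.range_etOpenι P D'.1).ge hu'
      exact ⟨v, by rw [ofPt_hom (AlgSpDec.etOpenι P D'.1) v, hv]; rfl⟩
    exact ⟨e.symm ⟨D, hD⟩, key _ ((e.apply_symm_apply ⟨D, hD⟩).symm ▸ hu)⟩

/-- Finitely many affine objects over an open set of points covering the part of an affine object over it. -/
theorem exists_open_pieces [QuasiSeparatedSpace ↥S] (hX : IsAlgSpace X) (hqs : IsQuasiSeparatedSp X)
    {O : Set (Points X)} (hO : IsOpen O) (hOc : IsCompact O) (E : EtOver X) [IsAffine E.obj.left.left] :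
    ∃ (κ : Type) (_ : Finite κ) (Z : κ → EtOver X) (p : ∀ k, Z k ⟶ E), (∀ k, In O (Z k)) ∧
      ∀ {W : EtOver X} (f : W ⟶ E), Set.range (Points.ofPt W.obj.hom) ⊆ O →
        ∃ Sv ∈ etTop X W, ∀ {V : EtOver X} (h : V ⟶ W), Sv h → ∃ (k : κ) (l : V ⟶ Z k), l ≫ p k = h ≫ f := by
  obtain ⟨n, F, hF, hcov⟩ := exists_open_affines hX hO hOc
  have h := fun j => haveI := (hF j).1; exists_prod_cover hqs E (F j)
  choose m Z p q hZ hl using h
  refine ⟨Σ j, Fin (m j), inferInstance, fun i => Z i.1 i.2, fun i => p i.1 i.2, fun i =>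
    (hF i.1).of_hom (q i.1 i.2) (hZ i.1 i.2), fun {W} f hW => ?_⟩
  let T : Sieve W :=
    { arrows := fun V h => ∃ (k : Σ j, Fin (m j)) (l : V ⟶ Z k.1 k.2), l ≫ p k.1 k.2 = h ≫ f
      downward_closed := by
        rintro V V' h ⟨k, l, hl⟩ g
        exact ⟨k, g ≫ l, by rw [Category.assoc, hl, Category.assoc]⟩ }
  refine ⟨T, ?_, fun h hh => hh⟩
  refine (etTop X).transitive (AlgSp.ofArrows_mem_etTop (fun j => EtOver.prodObj W (F j))
    (fun j => EtOver.prodFst W (F j)) fun z => ?_) T ?_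
  · obtain ⟨j, v, hv⟩ := hcov _ (hW ⟨z, rfl⟩)
    obtain ⟨w, -, hw⟩ := AlgSpLib.exists_ofPt_of_eq ((F j).property.1.isPullback' W.obj.hom) hv
    exact ⟨j, w, hw⟩
  · intro V g hg
    obtain ⟨j, l, rfl⟩ := (Sieve.mem_ofArrows_iff _ _ _).1 hg
    rw [Sieve.pullback_comp]
    refine (etTop X).pullback_stable l ?_
    obtain ⟨Sv, hSv, hS⟩ := hl j (EtOver.prodFst W (F j) ≫ f) (EtOver.prodSnd W (F j))
    refine (etTop X).superset_covering (fun V' h hh => ?_) hSv
    obtain ⟨k, l', h1, -⟩ := hS h hh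
    exact ⟨⟨j, k⟩, l', by rw [h1, Category.assoc]⟩

/-- Two maps to a chart with unique lifts over the complement of an open set of points agree near the points
outside it. -/
theorem sieve_eq_or_in (hX : IsAlgSpace X) {O O' : Set (Points X)} (hO : IsOpen O) (F : EtOver X)
    (hFO : Set.range (Points.ofPt F.obj.hom) ⊆ O') (huniq : AlgSpInd.UniqLifts F.obj.hom (O' \ O))
    {W : EtOver X} (f a : W ⟶ F) :
    ∃ Sv ∈ etTop X W, ∀ {V : EtOver X} (h : V ⟶ W), Sv h →
      h ≫ f = h ≫ a ∨ Set.range (Points.ofPt V.obj.hom) ⊆ O := by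
  let T : Sieve W :=
    { arrows := fun V h => h ≫ f = h ≫ a ∨ Set.range (Points.ofPt V.obj.hom) ⊆ O
      downward_closed := by
        rintro V V' h (hh | hh) g
        · exact Or.inl (by rw [Category.assoc, hh, Category.assoc])
        · exact Or.inr ((range_subset_of_hom g).trans hh) }
  refine ⟨T, mem_etTop_of_range _ fun z => ?_, fun h hh => hh⟩
  by_cases hz : Points.ofPt W.obj.hom z ∈ O
  · let D : W.obj.left.left.Opens := ⟨Points.ofPt W.obj.hom ⁻¹' O, hO.preimage (Points.continuous_ofPt _)⟩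
    refine ⟨_, AlgSpDec.etOpenι W D, mem_range_etOpenι hz, Or.inr ?_⟩
    rintro _ ⟨v, rfl⟩
    rw [ofPt_hom (AlgSpDec.etOpenι W D) v]
    exact (AlgSpDec.range_etOpenι W D).le ⟨v, rfl⟩
  · have hΔ := repWith_openImm_diagonal_of_isEtaleMor (IsAlgSpace.yon_obj F.obj.left) hX
      (AlgSpLib.isEtaleMor_of_repWith F.property)
    let L : (yon S).obj W.obj.left ⟶ pullback F.obj.hom F.obj.hom :=
      pullback.lift ((yon S).map f.hom.left) ((yon S).map a.hom.left) ((EtOver.w f).trans (EtOver.w a).symm)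
    haveI : IsOpenImmersion (hΔ.rep.snd L).left := hΔ.property_snd L
    let κ := W.obj.left.left.residueField z
    let Ω := AlgebraicClosure κ
    let pt : Spec (CommRingCat.of Ω) ⟶ W.obj.left.left :=
      Spec.map (CommRingCat.ofHom (algebraMap κ Ω)) ≫ W.obj.left.left.fromSpecResidueField z
    let str := pt ≫ W.obj.left.hom
    let P₀ : Over.mk str ⟶ W.obj.left := Over.homMk pt rfl
    have hpt : pt (IsLocalRing.closedPoint Ω) = z := W.obj.left.left.fromSpecResidueField_apply z _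
    have hw : ∀ b : W ⟶ F, (yon S).map (P₀ ≫ b.hom.left) ≫ F.obj.hom = (yon S).map P₀ ≫ W.obj.hom := fun b => by
      rw [(yon S).map_comp, Category.assoc, EtOver.w b]
    have heq : P₀ ≫ f.hom.left = P₀ ≫ a.hom.left := huniq Ω str _ _ ((hw f).trans (hw a).symm) (by
      rw [hw f, AlgSpLib.ofPt_comp]
      show Points.ofPt W.obj.hom (pt (IsLocalRing.closedPoint Ω)) ∈ _
      rw [hpt]
      exact ⟨hFO ⟨_, (ofPt_hom f z).symm⟩, hz⟩)
    have hLP : (yon S).map (P₀ ≫ f.hom.left) ≫ pullback.diagonal F.obj.hom = (yon S).map P₀ ≫ L := by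
      apply pullback.hom_ext
      · simp [L]
      · simp [L, heq, ← Functor.map_comp]
    obtain ⟨o, ho⟩ := (yon S).map_surjective ((hΔ.rep.isPullback L).lift _ _ hLP)
    let D := (hΔ.rep.snd L).left.opensRange
    have hzD : z ∈ D := by
      refine ⟨o.left (IsLocalRing.closedPoint Ω), ?_⟩
      have h3 : o ≫ hΔ.rep.snd L = P₀ := (yon S).map_injective (by rw [Functor.map_comp, ho, IsPullback.lift_snd])
      rw [← Scheme.Hom.comp_apply, ← Over.comp_left, h3]
      exact hpt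
    refine ⟨_, AlgSpDec.etOpenι W D, mem_range_etOpenι hzD, Or.inl (EtOver.hom_ext _ _ ?_)⟩
    obtain ⟨k, hk⟩ := AlgSpDec.exists_factor_openImm (hΔ.rep.snd L) (AlgSpMor.opι D) fun x => x.2
    have h1 := hΔ.rep.w L
    have e1 : hΔ.rep.fst L = (yon S).map (hΔ.rep.snd L) ≫ (yon S).map f.hom.left := by
      simpa [L, pullback.lift_fst] using h1 =≫ pullback.fst F.obj.hom F.obj.hom
    have e2 : hΔ.rep.fst L = (yon S).map (hΔ.rep.snd L) ≫ (yon S).map a.hom.left := by
      simpa [L, pullback.lift_snd] using h1 =≫ pullback.snd F.obj.hom F.obj.hom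
    show AlgSpMor.opι D ≫ f.hom.left = AlgSpMor.opι D ≫ a.hom.left
    rw [← hk, Category.assoc, Category.assoc]
    congr 1
    exact (yon S).map_injective (by rw [Functor.map_comp, Functor.map_comp, ← e1, ← e2])

variable (M : ModEt X)

/-- Sections with restrictions over `O` in `T` and restrictions along maps to `F` in the span of `N`. -/
noncomputable def glueSub (O : Set (Points X)) (T : ∀ E, Submodule (A E) (Msec M E)) (F : EtOver X)
    (N : Submodule (A F) (Msec M F)) (E : EtOver X) : Submodule (A E) (Msec M E) where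
  carrier := {m | ∀ ⦃W : EtOver X⦄ (_ : IsAffine W.obj.left.left) (f : W ⟶ E),
    (Set.range (Points.ofPt W.obj.hom) ⊆ O → rs M f m ∈ T W) ∧ ∀ a : W ⟶ F, rs M f m ∈ pushSub M N a}
  add_mem' := fun {x y} hx hy W hW f => by
    rw [map_add]
    exact ⟨fun h => add_mem ((hx hW f).1 h) ((hy hW f).1 h), fun a => add_mem ((hx hW f).2 a) ((hy hW f).2 a)⟩
  zero_mem' := fun W hW f => by
    rw [map_zero]
    exact ⟨fun _ => zero_mem _, fun a => zero_mem _⟩
  smul_mem' := fun c x hx W hW f => by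
    rw [show rs M f (c • x) = ((OEt X).obj.map f.op).hom c • rs M f x from
      QCart.sres_smul (QCart.psh (R := OEt X) M) f c x]
    exact ⟨fun h => Submodule.smul_mem _ _ ((hx hW f).1 h), fun a => Submodule.smul_mem _ _ ((hx hW f).2 a)⟩

variable {M}

theorem glueSub_res {O : Set (Points X)} {T : ∀ E, Submodule (A E) (Msec M E)} {F : EtOver X}
    {N : Submodule (A F) (Msec M F)} {E E' : EtOver X} (g : E' ⟶ E) {x : Msec M E}
    (hx : x ∈ glueSub M O T F N E) : rs M g x ∈ glueSub M O T F N E' := fun W hW f => by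
  rw [rs_rs]
  exact hx hW (f ≫ g)

theorem fg_pushSub {E₀ W : EtOver X} {N : Submodule (A E₀) (Msec M E₀)} (hN : N.FG) (a : W ⟶ E₀) :
    (pushSub M N a).FG := by
  classical
  obtain ⟨s, rfl⟩ := hN
  refine ⟨s.image (rs M a), le_antisymm (Submodule.span_le.2 ?_) (Submodule.span_le.2 ?_)⟩
  · intro y hy
    obtain ⟨x, hx, rfl⟩ := Finset.mem_image.1 (Finset.mem_coe.1 hy)
    exact Submodule.subset_span ⟨x, Submodule.subset_span hx, rfl⟩
  · rintro _ ⟨y, hy, rfl⟩
    induction hy using Submodule.span_induction with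
    | mem x hx => exact Submodule.subset_span (Finset.mem_coe.2 (Finset.mem_image_of_mem _ hx))
    | zero => rw [map_zero]; exact zero_mem _
    | add x y _ _ hx hy => rw [map_add]; exact add_mem hx hy
    | smul c x _ hx =>
      rw [show rs M a (c • x) = ((OEt X).obj.map a.op).hom c • rs M a x from
        QCart.sres_smul (QCart.psh (R := OEt X) M) a c x]
      exact Submodule.smul_mem _ _ hx

theorem pushSub_comp_le {E₀ W W' : EtOver X} (N : Submodule (A E₀) (Msec M E₀)) (a : W ⟶ E₀) (g : W' ⟶ W) :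
    pushSub M N (g ≫ a) ≤ pushSub M (pushSub M N a) g :=
  Submodule.span_le.2 (by
    rintro _ ⟨n, hn, rfl⟩
    exact Submodule.subset_span ⟨rs M a n, Submodule.subset_span ⟨n, hn, rfl⟩, rs_rs M a g n⟩)

variable [M.IsQuasicoherent] [QuasiSeparatedSpace ↥S]

/-- Extending a finitely generated submodule across a chart. -/
theorem exists_step (hX : IsAlgSpace X) (hqs : IsQuasiSeparatedSp X) {O O' : Set (Points X)} (hO : IsOpen O)
    (hOc : IsCompact O) (F : EtOver X) [IsAffine F.obj.left.left]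
    (hF : O ∪ Set.range (Points.ofPt F.obj.hom) = O') (huniq : AlgSpInd.UniqLifts F.obj.hom (O' \ O))
    {T : ∀ E, Submodule (A E) (Msec M E)} (hT : IsFGSub M O T)
    {ι : Type} [Finite ι] (E₀ : ι → EtOver X) (hE₀ : ∀ i, IsAffine (E₀ i).obj.left.left)
    (x : ∀ i, Msec M (E₀ i)) (hx : ∀ i W, In O W → ∀ a : W ⟶ E₀ i, rs M a (x i) ∈ T W) :
    ∃ T', IsFGSub M O' T' ∧ (∀ E, In O E → T' E = T E) ∧
      ∀ i W, In O' W → ∀ a : W ⟶ E₀ i, rs M a (x i) ∈ T' W := by
  classical
  -- the pieces of the chart over `O` and of the products with the required objects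
  obtain ⟨κ, _, Z, q, hZ, hZcov⟩ := exists_open_pieces hX hqs hO hOc F
  have hprod := fun i => haveI := hE₀ i; exists_prod_cover hqs (E₀ i) F
  choose n Z' p' q' hZ' hl' using hprod
  let K := pieceKer M q (fun k => T (Z k))
  have hK : ∀ k, T (Z k) ≤ pushSub M K (q k) := fun k y hy => by
    haveI := (hZ k).1
    refine mem_pushSub_pieceKer (q k) (fun j => (hZ j).1) q _ y fun j W hW l h _ => ?_
    exact hT.gen (hZ j) ((hZ j).of_hom l hW) l (hT.res (hZ k) ((hZ j).of_hom l hW) h y hy)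
  have hK' : ∀ i (m : Fin (n i)), rs M (p' i m) (x i) ∈ pushSub M K (q' i m) := fun i m => by
    haveI := hZ' i m
    refine mem_pushSub_pieceKer (q' i m) (fun j => (hZ j).1) q _ _ fun j W hW l h _ => ?_
    rw [rs_rs]
    exact hT.gen (hZ j) ((hZ j).of_hom l hW) l (hx i W ((hZ j).of_hom l hW) _)
  choose N₁ hN₁ hN₁f hN₁g using fun k => exists_fg_of_fg_le_pushSub K (q k) (hT.fg (hZ k)) (hK k)
  choose N₂ hN₂ hN₂f hN₂g using fun m : Σ i, Fin (n i) => exists_fg_le_pushSub K (q' m.1 m.2) (hK' m.1 m.2)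
  let N : Submodule (A F) (Msec M F) := (⨆ k, N₁ k) ⊔ ⨆ m, N₂ m
  have hNf : N.FG := (Submodule.fg_iSup N₁ hN₁f).sup (Submodule.fg_iSup N₂ hN₂f)
  have hNK : N ≤ K := sup_le (iSup_le hN₁) (iSup_le hN₂)
  have hNT : ∀ k, T (Z k) ≤ pushSub M N (q k) := fun k =>
    (hN₁g k).trans (pushSub_mono ((le_iSup N₁ k).trans le_sup_left) _)
  let T' := glueSub M O T F N
  have hres : ∀ {E E' : EtOver X} (g : E' ⟶ E) (m : Msec M E), m ∈ T' E → rs M g m ∈ T' E' :=
    fun g m hm => glueSub_res g hm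
  -- the new submodules agree with the old ones over `O`
  have hlower : ∀ {E : EtOver X}, In O E → T E ≤ T' E := fun {E} hE m hm W hW f => by
    have hWO : In O W := hE.of_hom f hW
    refine ⟨fun _ => hT.res hE hWO f m hm, fun a => ?_⟩
    haveI := hW
    obtain ⟨Sv, hSv, hS⟩ := hZcov a hWO.2
    refine mem_pushSub_of_local a _ hSv fun {V} hV g hg => ?_
    obtain ⟨k, l, hl⟩ := hS g hg
    rw [← hl]
    refine pushSub_le_pushSub_comp (q k) (hNT k) l (hT.gen (hZ k) (hWO.of_hom g hV) l ?_)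
    exact hT.res hWO (hWO.of_hom g hV) g _ (hT.res hE hWO f m hm)
  have hagree : ∀ E, In O E → T' E = T E := fun E hE => le_antisymm (fun m hm => by
    have := (hm hE.1 (𝟙 E)).1 hE.2
    rwa [show rs M (𝟙 E) m = m from QCart.sres_id _ m] at this) (hlower hE)
  -- the sections on the chart
  have hNF : N ≤ T' F := fun m hm W hW f => by
    have hO' : ∀ {V : EtOver X}, IsAffine V.obj.left.left → Set.range (Points.ofPt V.obj.hom) ⊆ O →
        ∀ g : V ⟶ F, rs M g m ∈ T V := fun {V} hV hVO g => by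
      obtain ⟨Sv, hSv, hS⟩ := hZcov g hVO
      refine hT.local_mem ⟨hV, hVO⟩ hSv fun {V'} hV' h hh => ?_
      obtain ⟨k, l, hl⟩ := hS h hh
      rw [rs_rs, ← hl, ← rs_rs]
      exact hT.res (hZ k) ⟨hV', (range_subset_of_hom h).trans hVO⟩ l _ (hNK hm k)
    refine ⟨fun hWO => hO' hW hWO f, fun a => ?_⟩
    haveI := hW
    obtain ⟨Sv, hSv, hS⟩ := sieve_eq_or_in hX hO F (hF ▸ Set.subset_union_right) huniq f a
    refine mem_pushSub_of_local a _ hSv fun {V} hV g hg => ?_
    rcases hS g hg with h | h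
    · rw [rs_rs, h]
      exact Submodule.subset_span ⟨m, hm, rfl⟩
    · have := (hlower ⟨hV, h⟩ (hO' hV h (g ≫ f)) hV (𝟙 V)).2 (g ≫ a)
      rw [show rs M (𝟙 V) (rs M (g ≫ f) m) = rs M (g ≫ f) m from QCart.sres_id _ _] at this
      rw [rs_rs]
      exact this
  have hFle : T' F ≤ N := fun m hm => by
    have := (hm (W := F) ‹_› (𝟙 F)).2 (𝟙 F)
    rwa [pushSub_id, show rs M (𝟙 F) m = m from QCart.sres_id _ m] at this
  -- generation by restriction
  have hgen : ∀ {E E' : EtOver X}, IsAffine E.obj.left.left → IsAffine E'.obj.left.left → ∀ g : E' ⟶ E,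
      T' E' ≤ pushSub M (T' E) g := fun {E E'} hE hE' g y hy => by
    haveI := hE
    haveI := hE'
    obtain ⟨κ₁, _, Z₁, p₁, hZ₁, hc₁⟩ := exists_open_pieces hX hqs hO hOc E
    obtain ⟨n₂, Z₂, p₂, q₂, hZ₂, hc₂⟩ := exists_prod_cover hqs E F
    let ZZ : κ₁ ⊕ Fin n₂ → EtOver X := Sum.elim Z₁ Z₂
    let pp : ∀ k, ZZ k ⟶ E := fun k => match k with
      | .inl k => p₁ k
      | .inr k => p₂ k
    let NN : ∀ k, Submodule (A (ZZ k)) (Msec M (ZZ k)) := fun k => match k with
      | .inl k => T (Z₁ k)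
      | .inr k => pushSub M N (q₂ k)
    have hker : pieceKer M pp NN ≤ T' E := fun m hm W hW f => by
      haveI := hW
      refine ⟨fun hWO => ?_, fun a => ?_⟩
      · obtain ⟨Sv, hSv, hS⟩ := hc₁ f hWO
        refine hT.local_mem ⟨hW, hWO⟩ hSv fun {V} hV h hh => ?_
        obtain ⟨k, l, hl⟩ := hS h hh
        rw [rs_rs, ← hl, ← rs_rs]
        exact hT.res (hZ₁ k) ((hZ₁ k).of_hom l hV) l _ (hm (.inl k))
      · obtain ⟨Sv, hSv, hS⟩ := hc₂ f a
        refine mem_pushSub_of_local a _ hSv fun {V} hV h hh => ?_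
        obtain ⟨k, l, h1, h2⟩ := hS h hh
        rw [rs_rs, ← h1, ← h2, ← rs_rs]
        exact rs_mem_pushSub (q₂ k) l (hm (.inr k))
    refine pushSub_mono hker g (mem_pushSub_pieceKer g (Z := ZZ) ?_ pp NN y ?_)
    · rintro (k | k)
      exacts [(hZ₁ k).1, hZ₂ k]
    · rintro (k | k) W hW l h -
      · exact hT.gen (hZ₁ k) ((hZ₁ k).of_hom l hW) l ((hy hW h).1 ((hZ₁ k).of_hom l hW).2)
      · exact pushSub_comp_le N (q₂ k) l ((hy hW h).2 _)
  refine ⟨T', ⟨fun _ _ g m hm => hres g m hm, fun hE hE' g => hgen hE.1 hE'.1 g, fun {E} hE => ?_⟩, hagree,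
    fun i W hW a V hV f => ⟨fun hVO => ?_, fun b => ?_⟩⟩
  · -- finite generation
    haveI := hE.1
    obtain ⟨κ₁, _, Z₁, p₁, hZ₁, hc₁⟩ := exists_open_pieces hX hqs hO hOc E
    obtain ⟨n₂, Z₂, p₂, q₂, hZ₂, hc₂⟩ := exists_prod_cover hqs E F
    have h₁ : ∀ k, (T' (Z₁ k)).FG := fun k => by rw [hagree _ (hZ₁ k)]; exact hT.fg (hZ₁ k)
    have h₂ : ∀ k, (T' (Z₂ k)).FG := fun k => by
      have : T' (Z₂ k) = pushSub M N (q₂ k) := le_antisymm
        ((hgen ‹_› (hZ₂ k) (q₂ k)).trans (pushSub_mono hFle _))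
        ((pushSub_mono hNF _).trans (Submodule.span_le.2 (by
          rintro _ ⟨m, hm, rfl⟩
          exact hres (q₂ k) m hm)))
      rw [this]
      exact fg_pushSub hNf _
    choose K₁ hK₁ hK₁f hK₁g using fun k => exists_fg_of_fg_le_pushSub (T' E) (p₁ k) (h₁ k) (hgen hE.1 (hZ₁ k).1 (p₁ k))
    choose K₂ hK₂ hK₂f hK₂g using fun k => exists_fg_of_fg_le_pushSub (T' E) (p₂ k) (h₂ k) (hgen hE.1 (hZ₂ k) (p₂ k))
    let L := (⨆ k, K₁ k) ⊔ ⨆ k, K₂ k
    suffices T' E = L by rw [this]; exact (Submodule.fg_iSup K₁ hK₁f).sup (Submodule.fg_iSup K₂ hK₂f)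
    refine le_antisymm (fun m hm => ?_) (sup_le (iSup_le hK₁) (iSup_le hK₂))
    let D : E.obj.left.left.Opens := ⟨Points.ofPt E.obj.hom ⁻¹' O, hO.preimage (Points.continuous_ofPt _)⟩
    let Sv : Sieve E :=
      { arrows := fun V h => (∃ (k : κ₁) (l : V ⟶ Z₁ k), l ≫ p₁ k = h) ∨ ∃ (k : Fin n₂) (l : V ⟶ Z₂ k), l ≫ p₂ k = h
        downward_closed := by
          rintro V V' h (⟨k, l, hl⟩ | ⟨k, l, hl⟩) g
          · exact .inl ⟨k, g ≫ l, by rw [Category.assoc, hl]⟩
          · exact .inr ⟨k, g ≫ l, by rw [Category.assoc, hl]⟩ }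
    refine mem_of_local L (Sv := Sv) ?_ fun {V} hV g hg => ?_
    · let Y : Bool → EtOver X := fun b => match b with
        | true => AlgSpDec.etOpen E D
        | false => EtOver.prodObj E F
      let y : ∀ b, Y b ⟶ E := fun b => match b with
        | true => AlgSpDec.etOpenι E D
        | false => EtOver.prodFst E F
      refine (etTop X).transitive (AlgSp.ofArrows_mem_etTop Y y fun z => ?_) Sv ?_
      · rcases (hF.symm.subset (hE.2 ⟨z, rfl⟩)) with hz | ⟨v, hv⟩
        · exact ⟨true, mem_range_etOpenι (O := D) hz⟩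
        · obtain ⟨w, -, hw⟩ := AlgSpLib.exists_ofPt_of_eq (F.property.1.isPullback' E.obj.hom) hv
          exact ⟨false, w, hw⟩
      · intro V g hg
        obtain ⟨b, l, rfl⟩ := (Sieve.mem_ofArrows_iff _ _ _).1 hg
        rw [Sieve.pullback_comp]
        refine (etTop X).pullback_stable l ?_
        cases b with
        | true =>
          obtain ⟨S', hS', hS⟩ := hc₁ (AlgSpDec.etOpenι E D) (by
            rintro _ ⟨v, rfl⟩
            rw [ofPt_hom (AlgSpDec.etOpenι E D) v]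
            exact (AlgSpDec.range_etOpenι E D).le ⟨v, rfl⟩)
          refine (etTop X).superset_covering (fun V' h hh => ?_) hS'
          obtain ⟨k, l', hl⟩ := hS h hh
          exact .inl ⟨k, l', hl⟩
        | false =>
          obtain ⟨S', hS', hS⟩ := hc₂ (EtOver.prodFst E F) (EtOver.prodSnd E F)
          refine (etTop X).superset_covering (fun V' h hh => ?_) hS'
          obtain ⟨k, l', hl, -⟩ := hS h hh
          exact .inr ⟨k, l', hl⟩
    · rcases hg with ⟨k, l, rfl⟩ | ⟨k, l, rfl⟩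
      · exact pushSub_le_pushSub_comp (p₁ k)
          ((hK₁g k).trans (pushSub_mono ((le_iSup K₁ k).trans le_sup_left) _)) l
          (hgen (hZ₁ k).1 hV l (hres _ m hm))
      · exact pushSub_le_pushSub_comp (p₂ k)
          ((hK₂g k).trans (pushSub_mono ((le_iSup K₂ k).trans le_sup_right) _)) l
          (hgen (hZ₂ k) hV l (hres _ m hm))
  · rw [rs_rs]
    exact hx i V ⟨hV, hVO⟩ (f ≫ a)
  · haveI := hV
    obtain ⟨Sv, hSv, hS⟩ := hl' i (f ≫ a) b
    refine mem_pushSub_of_local b _ hSv fun {V'} hV' h hh => ?_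
    obtain ⟨k, l, h1, h2⟩ := hS h hh
    rw [rs_rs, rs_rs, show (h ≫ f) ≫ a = l ≫ p' i k from (Category.assoc _ _ _).trans h1.symm, ← h2, ← rs_rs]
    exact rs_mem_pushSub (q' i k) l (pushSub_mono ((le_iSup N₂ ⟨i, k⟩).trans le_sup_right) _ (hN₂g ⟨i, k⟩))

end Groth.Agent.SubExt
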