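import Groth.Agent.AlgSpMor.CoherentGen

/-!
# Submodules of quasi-coherent modules over a set of points of a space
-/

universe u

set_option autoImplicit false
set_option linter.style.haveILetI false
set_option backward.isDefEq.respectTransparency false
set_option backward.isDefEq.respectTransparency.types false

open CategoryTheory CategoryTheory.Limits AlgebraicGeometry Opposite AlgSp TensorProduct
open Groth.Agent.AlgSpQC10 Groth.Agent.AlgSpMor

namespace Groth.Agent.SubExt

variable {S : Scheme.{u}} {X : Sp S}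

/-- An affine object of the small etale site lying over a set of points. -/
def In (O : Set (Points X)) (E : EtOver X) : Prop :=
  IsAffine E.obj.left.left ∧ Set.range (Points.ofPt E.obj.hom) ⊆ O

theorem ofPt_hom {E E' : EtOver X} (g : E' ⟶ E) (v : ↥E'.obj.left.left) :
    Points.ofPt E'.obj.hom v = Points.ofPt E.obj.hom (g.hom.left.left v) := by
  rw [← EtOver.w g]
  exact AlgSpLib.ofPt_comp g.hom.left E.obj.hom v

theorem range_subset_of_hom {E E' : EtOver X} (g : E' ⟶ E) :
    Set.range (Points.ofPt E'.obj.hom) ⊆ Set.range (Points.ofPt E.obj.hom) := by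
  rintro _ ⟨v, rfl⟩
  exact ⟨_, (ofPt_hom g v).symm⟩

theorem In.of_hom {O : Set (Points X)} {E E' : EtOver X} (hE : In O E) (g : E' ⟶ E)
    (hE' : IsAffine E'.obj.left.left) : In O E' :=
  ⟨hE', (range_subset_of_hom g).trans hE.2⟩

theorem In.mono {O O' : Set (Points X)} {E : EtOver X} (hE : In O E) (h : O ⊆ O') : In O' E :=
  ⟨hE.1, hE.2.trans h⟩

theorem in_univ {E : EtOver X} (hE : IsAffine E.obj.left.left) : In Set.univ E := ⟨hE, Set.subset_univ _⟩

/-- Submodules of sections on the affine objects over `O`: stable under restriction, generated by restriction,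
finitely generated. -/
structure IsFGSub (M : ModEt X) (O : Set (Points X)) (T : ∀ E, Submodule (A E) (Msec M E)) : Prop where
  res : ∀ {E E' : EtOver X}, In O E → In O E' → ∀ (g : E' ⟶ E) (x : Msec M E), x ∈ T E → rs M g x ∈ T E'
  gen : ∀ {E E' : EtOver X}, In O E → In O E' → ∀ g : E' ⟶ E, T E' ≤ pushSub M (T E) g
  fg : ∀ {E : EtOver X}, In O E → (T E).FG

variable {M : ModEt X}

theorem pushSub_mono {E₀ W : EtOver X} {N N' : Submodule (A E₀) (Msec M E₀)} (h : N ≤ N') (a : W ⟶ E₀) :
    pushSub M N a ≤ pushSub M N' a :=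
  Submodule.span_mono (Set.image_mono h)

theorem pushSub_le_pushSub_comp {E₀ W W' : EtOver X} {N : Submodule (A E₀) (Msec M E₀)}
    {N' : Submodule (A W) (Msec M W)} (a : W ⟶ E₀) (h : N' ≤ pushSub M N a) (g : W' ⟶ W) :
    pushSub M N' g ≤ pushSub M N (g ≫ a) :=
  Submodule.span_le.2 (by
    rintro _ ⟨x, hx, rfl⟩
    exact rs_mem_pushSub a g (h hx))

theorem exists_fg_le_pushSub {E₀ W : EtOver X} (N : Submodule (A E₀) (Msec M E₀)) (a : W ⟶ E₀) {m : Msec M W}
    (hm : m ∈ pushSub M N a) : ∃ N' ≤ N, N'.FG ∧ m ∈ pushSub M N' a := by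
  induction hm using Submodule.span_induction with
  | mem x hx =>
    obtain ⟨y, hy, rfl⟩ := hx
    exact ⟨Submodule.span _ {y}, (Submodule.span_singleton_le_iff_mem _ _).2 hy, Submodule.fg_span_singleton y,
      Submodule.subset_span ⟨y, Submodule.mem_span_singleton_self y, rfl⟩⟩
  | zero => exact ⟨⊥, bot_le, Submodule.fg_bot, zero_mem _⟩
  | add x y _ _ hx hy =>
    obtain ⟨P, hP, hPf, hx⟩ := hx
    obtain ⟨Q, hQ, hQf, hy⟩ := hy
    exact ⟨P ⊔ Q, sup_le hP hQ, hPf.sup hQf,
      add_mem (pushSub_mono le_sup_left a hx) (pushSub_mono le_sup_right a hy)⟩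
  | smul c x _ hx =>
    obtain ⟨P, hP, hPf, hx⟩ := hx
    exact ⟨P, hP, hPf, Submodule.smul_mem _ c hx⟩

theorem exists_fg_of_fg_le_pushSub {E₀ W : EtOver X} (N : Submodule (A E₀) (Msec M E₀)) (a : W ⟶ E₀)
    {L : Submodule (A W) (Msec M W)} (hL : L.FG) (h : L ≤ pushSub M N a) :
    ∃ N' ≤ N, N'.FG ∧ L ≤ pushSub M N' a := by
  classical
  obtain ⟨s, rfl⟩ := hL
  choose P hP hPf hm using fun x : ↥s => exists_fg_le_pushSub N a (h (Submodule.subset_span x.2))
  refine ⟨⨆ x, P x, iSup_le hP, Submodule.fg_iSup P hPf, Submodule.span_le.2 fun x hx => ?_⟩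
  exact pushSub_mono (le_iSup P ⟨x, hx⟩) a (hm ⟨x, hx⟩)

variable [M.IsQuasicoherent]

theorem mem_of_local {E : EtOver X} [IsAffine E.obj.left.left] (T : Submodule (A E) (Msec M E)) {m : Msec M E}
    {Sv : Sieve E} (hS : Sv ∈ etTop X E)
    (h : ∀ {V : EtOver X} (_ : IsAffine V.obj.left.left) (g : V ⟶ E), Sv g → rs M g m ∈ pushSub M T g) :
    m ∈ T := by
  rw [← pushSub_id (N₁ := T)]
  exact mem_pushSub_of_local (𝟙 E) m hS fun hV g hg => by rw [Category.comp_id]; exact h hV g hg

theorem IsFGSub.local_mem {O : Set (Points X)} {T : ∀ E, Submodule (A E) (Msec M E)} (hT : IsFGSub M O T)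
    {E : EtOver X} (hE : In O E) {m : Msec M E} {Sv : Sieve E} (hS : Sv ∈ etTop X E)
    (h : ∀ {V : EtOver X} (_ : IsAffine V.obj.left.left) (g : V ⟶ E), Sv g → rs M g m ∈ T V) : m ∈ T E :=
  haveI := hE.1
  mem_of_local (T E) hS fun hV g hg => hT.gen hE (hE.of_hom g hV) g (h hV g hg)

theorem mem_range_of_mem_pushSub {E E' : EtOver X} [IsAffine E.obj.left.left] [IsAffine E'.obj.left.left]
    (T : Submodule (A E) (Msec M E)) (g : E' ⟶ E) (z : QCart.Rg (OEt X).obj g ⊗[A E] Msec M E)
    (h : (show Msec M E' from QCart.bcMap g (QCart.psh (R := OEt X) M) z) ∈ pushSub M T g) :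
    z ∈ LinearMap.range (T.subtype.lTensor (QCart.Rg (OEt X).obj g)) := by
  obtain ⟨v, rfl⟩ := (bcMap_mem_pushSub_iff (N₁ := T) (𝟙 E) g z).1 (by rw [Category.comp_id]; exact h)
  refine ⟨(Submodule.inclusion (pushSub_id (N₁ := T)).le).lTensor _ v, ?_⟩
  rw [← LinearMap.comp_apply, ← LinearMap.lTensor_comp]
  rfl

omit [M.IsQuasicoherent] in
theorem mem_pushSub_of_mem_range {E E' : EtOver X} (T : Submodule (A E) (Msec M E)) (g : E' ⟶ E)
    {z : QCart.Rg (OEt X).obj g ⊗[A E] Msec M E}
    (hz : z ∈ LinearMap.range (T.subtype.lTensor (QCart.Rg (OEt X).obj g))) :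
    (show Msec M E' from QCart.bcMap g (QCart.psh (R := OEt X) M) z) ∈ pushSub M T g := by
  obtain ⟨v, rfl⟩ := hz
  induction v using TensorProduct.induction_on with
  | zero => rw [map_zero, map_zero]; exact zero_mem _
  | add x y hx hy => rw [map_add, map_add]; exact add_mem hx hy
  | tmul b x =>
    rw [LinearMap.lTensor_tmul, QCart.bcMap_tmul]
    exact Submodule.smul_mem _ (show A E' from b) (Submodule.subset_span ⟨x, x.2, rfl⟩)

variable (M) in
/-- The sections with restrictions in given submodules. -/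
noncomputable def pieceKer {κ : Type} {E : EtOver X} {Z : κ → EtOver X} (p : ∀ k, Z k ⟶ E)
    (N : ∀ k, Submodule (A (Z k)) (Msec M (Z k))) : Submodule (A E) (Msec M E) where
  carrier := {x | ∀ k, rs M (p k) x ∈ N k}
  add_mem' := fun {x y} hx hy k => by rw [map_add]; exact add_mem (hx k) (hy k)
  zero_mem' := fun k => by rw [map_zero]; exact zero_mem _
  smul_mem' := fun c x hx k => by
    rw [show rs M (p k) (c • x) = ((OEt X).obj.map (p k).op).hom c • rs M (p k) x from
      QCart.sres_smul (QCart.psh (R := OEt X) M) (p k) c x]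
    exact Submodule.smul_mem _ _ (hx k)

set_option maxHeartbeats 1600000 in
set_option synthInstance.maxHeartbeats 200000 in
/-- A section whose restrictions lie in the given submodules is generated by sections with that property. -/
theorem mem_pushSub_pieceKer {κ : Type} [Finite κ] {E E' : EtOver X} [IsAffine E.obj.left.left]
    [IsAffine E'.obj.left.left] (g : E' ⟶ E) {Z : κ → EtOver X} (hZ : ∀ k, IsAffine (Z k).obj.left.left)
    (p : ∀ k, Z k ⟶ E) (N : ∀ k, Submodule (A (Z k)) (Msec M (Z k))) (y : Msec M E')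
    (hy : ∀ (k : κ) (W : EtOver X) (_ : IsAffine W.obj.left.left) (l : W ⟶ Z k) (h : W ⟶ E'),
      l ≫ p k = h ≫ g → rs M h y ∈ pushSub M (N k) l) :
    y ∈ pushSub M (pieceKer M p N) g := by
  classical
  haveI := Fintype.ofFinite κ
  obtain ⟨z, hz⟩ := (isCart M ‹IsAffine E.obj.left.left› ‹IsAffine E'.obj.left.left› g).2
    (QCart.toSec g (QCart.psh (R := OEt X) M) y)
  suffices h : z ∈ LinearMap.range ((pieceKer M p N).subtype.lTensor (QCart.Rg (OEt X).obj g)) by
    have := mem_pushSub_of_mem_range _ g h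
    rw [hz] at this
    exact this
  let O := (OEt X).obj
  let P := QCart.psh (R := OEt X) M
  let B := QCart.Rg O g
  let N' : ∀ k, Submodule (A E) (QCart.Sec P (p k)) := fun k =>
    (show Submodule (QCart.Rg O (p k)) (QCart.Sec P (p k)) from N k).restrictScalars (A E)
  let Φ : Msec M E →ₗ[A E] ∀ k, QCart.Sec P (p k) ⧸ N' k :=
    LinearMap.pi fun k => (N' k).mkQ ∘ₗ QCart.res (p k) P
  have hker : LinearMap.ker Φ ≤ pieceKer M p N := fun x hx k =>
    (Submodule.Quotient.mk_eq_zero (N' k)).1 (congrFun (LinearMap.mem_ker.1 hx) k)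
  haveI : Module.Flat (A E) B := QCart.algebraMap_flat X ‹_› ‹_› g
  obtain ⟨v, hv⟩ := (Module.Flat.lTensor_exact B (LinearMap.exact_subtype_ker_map Φ) z).1 (by
    refine (TensorProduct.piRight (A E) (A E) B fun k => QCart.Sec P (p k) ⧸ N' k).injective (funext fun k => ?_)
    rw [map_zero, Pi.zero_apply]
    have e : ∀ w : B ⊗[A E] Msec M E,
        TensorProduct.piRight (A E) (A E) B (fun k => QCart.Sec P (p k) ⧸ N' k) (Φ.lTensor B w) k =
          (N' k).mkQ.lTensor B ((QCart.res (p k) P).lTensor B w) := fun w => by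
      induction w using TensorProduct.induction_on with
      | zero => simp only [map_zero, Pi.zero_apply]
      | add w w' hw hw' => simp only [map_add, Pi.add_apply, hw, hw']
      | tmul b x =>
        rw [LinearMap.lTensor_tmul, TensorProduct.piRight_apply, TensorProduct.piRightHom_tmul]
        rfl
    rw [e]
    let w := (QCart.res (p k) P).lTensor B z
    suffices hw : w ∈ LinearMap.range ((N' k).subtype.lTensor B) by
      obtain ⟨u, hu⟩ := hw
      show (N' k).mkQ.lTensor B w = 0
      rw [← hu, ← LinearMap.comp_apply, ← LinearMap.lTensor_comp,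
        show (N' k).mkQ.comp (N' k).subtype = 0 from LinearMap.ext fun u => (Submodule.Quotient.mk_eq_zero _).2 u.2,
        LinearMap.lTensor_zero, LinearMap.zero_apply]
    let b := QCart.etBasis X
    have hE : b.aff E := ‹IsAffine E.obj.left.left›
    have hE' : b.aff E' := ‹IsAffine E'.obj.left.left›
    let fs := b.fst hE (hZ k) hE' (p k) g
    let sn := b.snd hE (hZ k) hE' (p k) g
    have sq := b.isRingSq hE (hZ k) hE' (p k) g
    have hP : IsAffine (b.prod hE (hZ k) hE' (p k) g).obj.left.left := b.aff_prod hE (hZ k) hE' (p k) g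
    haveI := hP
    haveI := hZ k
    letI : Algebra (QCart.Rg O (p k)) (QCart.Rg O fs) := (O.map fs.op).hom.toAlgebra
    letI : Algebra B (QCart.Rg O fs) := RingHom.toAlgebra (S := QCart.Rg O fs) (O.map sn.op).hom
    letI : Algebra (A E) (QCart.Rg O fs) :=
      RingHom.toAlgebra (S := QCart.Rg O fs) ((O.map fs.op).hom.comp (O.map (p k).op).hom)
    haveI : IsScalarTower (A E) (QCart.Rg O (p k)) (QCart.Rg O fs) := IsScalarTower.of_algebraMap_eq fun _ => rfl
    haveI : IsScalarTower (A E) B (QCart.Rg O fs) := IsScalarTower.of_algebraMap_eq fun a => by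
      show (O.map fs.op).hom ((O.map (p k).op).hom a) = (O.map sn.op).hom ((O.map g.op).hom a)
      rw [← CommRingCat.comp_apply, ← CommRingCat.comp_apply, ← O.map_comp, ← O.map_comp, ← op_comp, ← op_comp,
        sq.w]
    haveI : Algebra.IsPushout (A E) B (QCart.Rg O (p k)) (QCart.Rg O fs) :=
      CommRingCat.isPushout_iff_isPushout.1 (show CategoryTheory.IsPushout
        (CommRingCat.ofHom (algebraMap (A E) B)) (CommRingCat.ofHom (algebraMap (A E) (QCart.Rg O (p k))))
        (CommRingCat.ofHom (algebraMap B (QCart.Rg O fs)))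
        (CommRingCat.ofHom (algebraMap (QCart.Rg O (p k)) (QCart.Rg O fs))) from sq.pushout.flip)
    let eq := Algebra.IsPushout.cancelBaseChange (A E) B (QCart.Rg O (p k)) (QCart.Rg O fs) (QCart.Sec P (p k))
    have hmix : ∀ z : B ⊗[A E] Msec M E, (show Msec M _ from QCart.bcMap fs P (eq.symm ((QCart.res (p k) P).lTensor B z))) =
        rs M sn (show Msec M E' from QCart.bcMap g P z) := fun z => by
      show _ = QCart.sres P sn _
      induction z using TensorProduct.induction_on with
      | zero => simp only [map_zero]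
      | add w w' hw hw' => simp only [map_add]; exact congrArg₂ (· + ·) hw hw'
      | tmul c x =>
        rw [LinearMap.lTensor_tmul, Algebra.IsPushout.cancelBaseChange_symm_tmul]
        erw [QCart.bcMap_tmul, QCart.bcMap_tmul]
        refine Eq.trans ?_ (QCart.sres_smul P sn (show O.obj (op E') from c) (QCart.sres P g x)).symm
        refine congrArg (fun t : Msec M (b.prod hE (hZ k) hE' (p k) g) => ((O.map sn.op).hom c : A _) • t) ?_
        exact (QCart.sres_sres P (p k) fs x).trans ((congrArg (fun f => QCart.sres P f x) sq.w).trans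
          (QCart.sres_sres P g sn x).symm)
    have hmem : (show Msec M _ from QCart.bcMap fs P (eq.symm w)) ∈ pushSub M (N k) fs := by
      rw [hmix z, hz]
      exact hy k _ hP fs sn sq.w
    obtain ⟨u, hu⟩ := mem_range_of_mem_pushSub (N k) fs _ hmem
    let eN := Algebra.IsPushout.cancelBaseChange (A E) B (QCart.Rg O (p k)) (QCart.Rg O fs)
      (show Submodule (QCart.Rg O (p k)) (QCart.Sec P (p k)) from N k)
    have h : ∀ v, eq.symm ((N' k).subtype.lTensor B v) =
        (show Submodule (QCart.Rg O (p k)) (QCart.Sec P (p k)) from N k).subtype.lTensor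
          (QCart.Rg O fs) (eN.symm v) := fun v => by
      induction v using TensorProduct.induction_on with
      | zero => simp only [map_zero]
      | add v v' hv hv' => simp only [map_add]; rw [hv, hv']
      | tmul c x =>
        rw [LinearMap.lTensor_tmul]
        erw [Algebra.IsPushout.cancelBaseChange_symm_tmul]
    refine ⟨eN u, eq.symm.injective ?_⟩
    refine (h _).trans ?_
    rw [eN.symm_apply_apply]
    exact hu)
  exact ⟨(Submodule.inclusion hker).lTensor B v, by
    rw [← hv, ← LinearMap.comp_apply, ← LinearMap.lTensor_comp]; rfl⟩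

end Groth.Agent.SubExt
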