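import Groth.Agent.SubExt.FPBase
import Groth.Agent.QCart.EtRestrict
import Groth.Agent.DecentElem.PushQcqs
import Groth.Agent.AlgSpDec.EtPullRestrict

/-!
# Restriction along an etale morphism followed by direct image
-/

universe u

set_option autoImplicit false
set_option linter.style.haveILetI false
set_option backward.isDefEq.respectTransparency false
set_option backward.isDefEq.respectTransparency.types false

open CategoryTheory CategoryTheory.Limits AlgebraicGeometry Opposite AlgSp
open Groth.Agent.AlgSpQC10 Groth.Agent.AlgSpMor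

namespace Groth.Agent.SubExt

variable {S : Scheme.{u}} {Z X : Sp S} {f : Z ⟶ X} (hrep : Representable f) (hf : IsEtaleMor f)

/-- Restriction of modules along an etale morphism. -/
noncomputable def resF : ModEt X ⥤ ModEt Z :=
  haveI := AlgSpDec.PostcompSite.isContinuous f hf
  SheafOfModules.pushforward.{u + 1} (AlgSpDec.EtPullRestrict.φ hf)

theorem isQuasicoherent_resF (M : ModEt X) [M.IsQuasicoherent] : ((resF hf).obj M).IsQuasicoherent :=
  (QCart.isQuasicoherent_iff Z _).2 fun A A' hA hA' g =>
    (QCart.cart_restrictMod hf M g).2 (isCart M (E := (EtOver.postcomp f hf).obj A)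
      (E' := (EtOver.postcomp f hf).obj A') hA hA' ((EtOver.postcomp f hf).map g))

/-- A section of a restriction as a section downstairs. -/
def dn {M : ModEt X} {A : EtOver Z} (m : Msec ((resF hf).obj M) A) : Msec M ((EtOver.postcomp f hf).obj A) := m

/-- A section downstairs as a section of a restriction. -/
def upS {M : ModEt X} {A : EtOver Z} (m : Msec M ((EtOver.postcomp f hf).obj A)) : Msec ((resF hf).obj M) A := m

theorem dn_rs {M : ModEt X} {A A' : EtOver Z} (a : A' ⟶ A) (m : Msec ((resF hf).obj M) A) :
    dn hf (rs ((resF hf).obj M) a m) = rs M ((EtOver.postcomp f hf).map a) (dn hf m) := rfl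

theorem dn_ap {M N : ModEt X} (φ : M ⟶ N) {A : EtOver Z} (m : Msec ((resF hf).obj M) A) :
    dn hf (ap ((resF hf).map φ) A m) = ap φ _ (dn hf m) := rfl

/-- A section of a direct image as a section upstairs. -/
def bd {G : ModEt Z} {E : EtOver X} (m : Msec ((pushModEt hrep).obj G) E) : Msec G ((EtOver.bc hrep).obj E) := m

/-- A section upstairs as a section of the direct image. -/
def bu {G : ModEt Z} {E : EtOver X} (m : Msec G ((EtOver.bc hrep).obj E)) : Msec ((pushModEt hrep).obj G) E := m

theorem bd_rs {G : ModEt Z} {E E' : EtOver X} (g : E' ⟶ E) (m : Msec ((pushModEt hrep).obj G) E) :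
    bd hrep (rs ((pushModEt hrep).obj G) g m) = rs G ((EtOver.bc hrep).map g) (bd hrep m) := rfl

theorem bd_ap {G H : ModEt Z} (φ : G ⟶ H) {E : EtOver X} (m : Msec ((pushModEt hrep).obj G) E) :
    bd hrep (ap ((pushModEt hrep).map φ) E m) = ap φ _ (bd hrep m) := rfl

/-- The adjunction between composition and base change. -/
noncomputable def siteAdj : EtOver.postcomp f hf ⊣ EtOver.bc hrep := AlgSpDec.EtPullRestrict.adj hrep hf

/-- The projection of the base change to the object. -/
noncomputable def co (E : EtOver X) : (EtOver.postcomp f hf).obj ((EtOver.bc hrep).obj E) ⟶ E :=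
  (siteAdj hrep hf).counit.app E

theorem co_hom_left (E : EtOver X) : (co hrep hf E).hom.left = hrep.snd E.obj.hom := Category.id_comp _

theorem co_natural {E E' : EtOver X} (g : E' ⟶ E) :
    (EtOver.postcomp f hf).map ((EtOver.bc hrep).map g) ≫ co hrep hf E = co hrep hf E' ≫ g :=
  (siteAdj hrep hf).counit.naturality g

/-- The unit from a module to the direct image of its restriction. -/
noncomputable def unitPR (M : ModEt X) : M ⟶ (pushModEt hrep).obj ((resF hf).obj M) :=
  (AlgSpDec.EtPullRestrict.modAdj hrep hf).unit.app M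

theorem unitPR_natural {M N : ModEt X} (φ : M ⟶ N) :
    φ ≫ unitPR hrep hf N = unitPR hrep hf M ≫ (pushModEt hrep).map ((resF hf).map φ) :=
  (AlgSpDec.EtPullRestrict.modAdj hrep hf).unit.naturality φ

theorem unitPR_apply (M : ModEt X) {E : EtOver X} (m : Msec M E) :
    dn hf (bd hrep (ap (unitPR hrep hf M) E m)) = rs M (co hrep hf E) m := by
  rfl

theorem range_subset_of_postcomp (A : EtOver Z) :
    Set.range (Points.ofPt ((EtOver.postcomp f hf).obj A).obj.hom) ⊆ Set.range (Points.map f) := by
  rintro _ ⟨v, rfl⟩
  exact ⟨Points.ofPt A.obj.hom v, Points.map_ofPt _ _ _⟩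

theorem isQuasicoherent_pushres (hqc : IsQuasiCompactMor f) (hqs : IsQuasiSeparatedMor f) (M : ModEt X)
    [M.IsQuasicoherent] : ((pushModEt hrep).obj ((resF hf).obj M)).IsQuasicoherent :=
  haveI := isQuasicoherent_resF hf M
  DecentElem.isQuasicoherent_pushModEt hrep ((resF hf).obj M) hqc hqs

end Groth.Agent.SubExt
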